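import Mathlib

/-!
Alternating forms in characteristic two invariant under an automorphism.
-/

set_option autoImplicit false
set_option linter.unusedSectionVars false
set_option linter.style.haveILetI false

namespace Cfsg.Agent.Small.SpEven

universe u v w

/-- a non-degenerate alternating form and an isometry of it -/
structure Sys (F : Type u) [Field F] (V : Type v) [AddCommGroup V] [Module F V] where
  /-- the form -/
  B : V →ₗ[F] V →ₗ[F] F
  /-- the isometry -/
  g : V ≃ₗ[F] V
  alt : ∀ x, B x x = 0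
  nondeg : ∀ x, (∀ y, B x y = 0) → x = 0
  inv : ∀ x y, B (g x) (g y) = B x y

variable {F : Type u} [Field F] [CharP F 2]
variable {V : Type v} [AddCommGroup V]

theorem add_self_eq {F : Type u} [Field F] [CharP F 2] [Module F V] (x : V) : x + x = 0 := by
  rw [← two_smul F x, CharTwo.two_eq_zero, zero_smul]

theorem neg_eq' {F : Type u} [Field F] [CharP F 2] [Module F V] (x : V) : -x = x := neg_eq_of_add_eq_zero_left (add_self_eq (F := F) x)

variable [Module F V]

namespace Sys

variable (T : Sys F V)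

/-- the automorphism as an endomorphism -/
def U : Module.End F V := T.g.toLinearMap

/-- its inverse -/
def Ui : Module.End F V := T.g.symm.toLinearMap

/-- the nilpotent part -/
def N : Module.End F V := T.U + 1

/-- the adjoint of `N` -/
def M : Module.End F V := T.Ui + 1

/-- the self-adjoint part -/
def S : Module.End F V := T.U + T.Ui

theorem U_mul_Ui : T.U * T.Ui = 1 := LinearMap.ext fun x => T.g.apply_symm_apply x

theorem Ui_mul_U : T.Ui * T.U = 1 := LinearMap.ext fun x => T.g.symm_apply_apply x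

theorem end_add_self (A : Module.End F V) : A + A = 0 := LinearMap.ext fun x => add_self_eq (F := F) (A x)

theorem S_eq : T.S = T.N + T.M := by
  rw [N, M, S, add_add_add_comm, end_add_self, add_zero]

theorem M_eq : T.M = T.Ui * T.N := by
  rw [N, M, mul_add, T.Ui_mul_U, mul_one, add_comm]

theorem commute_U_Ui : Commute T.U T.Ui := T.U_mul_Ui.trans T.Ui_mul_U.symm

theorem commute_N_U : Commute T.N T.U := (Commute.refl T.U).add_left (Commute.one_left _)

theorem commute_N_Ui : Commute T.N T.Ui := T.commute_U_Ui.add_left (Commute.one_left _)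

theorem commute_N_M : Commute T.N T.M := T.commute_N_Ui.add_right (Commute.one_right _)

theorem commute_N_S : Commute T.N T.S := T.commute_N_U.add_right T.commute_N_Ui

theorem commute_M_S : Commute T.M T.S :=
  ((T.commute_U_Ui.symm).add_left (Commute.one_left _)).add_right
    ((Commute.refl T.Ui).add_left (Commute.one_left _))

theorem N_mul_M : T.N * T.M = T.S := by
  simp only [N, M]
  rw [add_mul, mul_add, mul_add, T.U_mul_Ui, one_mul, one_mul, mul_one]
  rw [S, show (1 : Module.End F V) + T.U + (T.Ui + 1) = T.U + T.Ui + (1 + 1) by abel, end_add_self, add_zero]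

theorem M_eq_rec : T.M = T.N + T.N * T.M := by
  rw [T.N_mul_M, T.S_eq, ← add_assoc, end_add_self, zero_add]

theorem N_sq : T.N * T.N = T.S + T.N * T.S := by
  rw [T.S_eq, mul_add, T.N_mul_M, T.S_eq]
  rw [show T.N + T.M + (T.N * T.N + (T.N + T.M)) = T.N * T.N + ((T.N + T.M) + (T.N + T.M)) by abel,
    end_add_self, add_zero]

theorem S_pow_eq (j : ℕ) : T.S ^ j = T.Ui ^ j * T.N ^ (2 * j) := by
  rw [← T.N_mul_M, T.M_eq, ← mul_assoc, T.commute_N_Ui.eq, mul_assoc,
    (T.commute_N_Ui.symm.mul_right T.commute_N_Ui.symm).mul_pow, ← pow_two, ← pow_mul]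

theorem M_pow_eq (j : ℕ) : T.M ^ j = T.Ui ^ j * T.N ^ j := by
  rw [T.M_eq, T.commute_N_Ui.symm.mul_pow]

theorem pow_zero_of_le {a k : ℕ} {x : V} (h : (T.N ^ k) x = 0) (hak : k ≤ a) : (T.N ^ a) x = 0 := by
  obtain ⟨c, rfl⟩ := Nat.exists_eq_add_of_le hak
  rw [add_comm, pow_add, Module.End.mul_apply, h, map_zero]

theorem N_pow_apply (a b : ℕ) (x : V) : (T.N ^ a) ((T.N ^ b) x) = (T.N ^ (a + b)) x := by
  rw [pow_add, Module.End.mul_apply]

theorem Ui_pow_fix {x : V} (h : T.N x = 0) (j : ℕ) : (T.Ui ^ j) x = x := by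
  induction j with
  | zero => rfl
  | succ j ih =>
    have h1 : T.Ui x = x := by
      have hU : T.U x = x := by
        have : T.U x + x = 0 := h
        rw [← sub_eq_zero, sub_eq_add_neg, neg_eq' (F := F), this]
      conv_lhs => rw [← hU]
      rw [← Module.End.mul_apply, T.Ui_mul_U, Module.End.one_apply]
    rw [pow_succ, Module.End.mul_apply, h1, ih]

theorem B_symm (x y : V) : T.B x y = T.B y x := by
  have h := T.alt (x + y)
  simp only [map_add, LinearMap.add_apply, T.alt, zero_add, add_zero] at h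
  rw [← CharTwo.add_eq_zero]
  linear_combination h

theorem U_adj (x y : V) : T.B (T.U x) y = T.B x (T.Ui y) := by
  conv_lhs => rw [show y = T.g (T.g.symm y) from (T.g.apply_symm_apply y).symm]
  exact T.inv x _

theorem Ui_adj (x y : V) : T.B (T.Ui x) y = T.B x (T.U y) := by
  rw [T.B_symm, ← T.U_adj, T.B_symm]

theorem N_adj (x y : V) : T.B (T.N x) y = T.B x (T.M y) := by
  simp only [N, M, LinearMap.add_apply, Module.End.one_apply, map_add, T.U_adj]

theorem M_adj (x y : V) : T.B (T.M x) y = T.B x (T.N y) := by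
  rw [T.B_symm, ← T.N_adj, T.B_symm]

theorem S_adj (x y : V) : T.B (T.S x) y = T.B x (T.S y) := by
  rw [T.S_eq, LinearMap.add_apply, LinearMap.add_apply, map_add, LinearMap.add_apply, map_add, T.N_adj, T.M_adj,
    add_comm]

theorem S_pow_adj (j : ℕ) (x y : V) : T.B ((T.S ^ j) x) y = T.B x ((T.S ^ j) y) := by
  induction j generalizing y with
  | zero => rfl
  | succ j ih =>
    conv_lhs => rw [pow_succ', Module.End.mul_apply, T.S_adj, ih]
    rw [← Module.End.mul_apply, ← pow_succ]

theorem N_pow_adj (a : ℕ) (x y : V) : T.B ((T.N ^ a) x) y = T.B x ((T.M ^ a) y) := by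
  induction a generalizing y with
  | zero => rfl
  | succ a ih =>
    conv_lhs => rw [pow_succ', Module.End.mul_apply, T.N_adj, ih]
    rw [← Module.End.mul_apply, ← pow_succ]

theorem M_pow_adj (a : ℕ) (x y : V) : T.B ((T.M ^ a) x) y = T.B x ((T.N ^ a) y) := by
  rw [T.B_symm, ← T.N_pow_adj, T.B_symm]

theorem B_pow_right (a : ℕ) {x y : V} (h : (T.N ^ a) y = 0) : T.B ((T.N ^ a) x) y = 0 := by
  rw [T.N_pow_adj, T.M_pow_eq, Module.End.mul_apply, h, map_zero, map_zero]

theorem S_pow_self : ∀ (j : ℕ) (x : V), T.B ((T.S ^ j) x) x = 0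
  | 0, x => T.alt x
  | 1, x => by
    rw [pow_one, S, LinearMap.add_apply, map_add, LinearMap.add_apply, T.Ui_adj, T.B_symm x,
      CharTwo.add_self_eq_zero]
  | j + 2, x => by
    rw [pow_succ, pow_succ', Module.End.mul_apply, Module.End.mul_apply, T.S_adj]
    exact S_pow_self j (T.S x)

theorem S_pow_zero {j a : ℕ} {x : V} (h : (T.N ^ a) x = 0) (haj : a ≤ 2 * j) : (T.S ^ j) x = 0 := by
  rw [T.S_pow_eq, Module.End.mul_apply, T.pow_zero_of_le h haj, map_zero]

/-- the quadratic functions -/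
def mu (j : ℕ) (x : V) : F := T.B ((T.S ^ j) (T.N x)) x

theorem mu_add (j : ℕ) (x y : V) :
    T.mu j (x + y) = T.mu j x + T.mu j y + T.B ((T.S ^ (j + 1)) x) y := by
  have h1 : T.B ((T.S ^ j) (T.N y)) x = T.B (T.M ((T.S ^ j) x)) y := by
    rw [T.S_pow_adj, T.N_adj, T.B_symm]
  have h2 : T.B ((T.S ^ j) (T.N x)) y + T.B (T.M ((T.S ^ j) x)) y = T.B ((T.S ^ (j + 1)) x) y := by
    rw [← Module.End.mul_apply, ← (T.commute_N_S.pow_right j).eq, Module.End.mul_apply,
      ← LinearMap.add_apply (f := T.B _), ← map_add, ← LinearMap.add_apply, ← T.S_eq, ← Module.End.mul_apply,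
      ← pow_succ']
  simp only [mu, map_add, LinearMap.add_apply, h1]
  rw [← h2]
  ring

theorem mu_smul (j : ℕ) (c : F) (x : V) : T.mu j (c • x) = c ^ 2 * T.mu j x := by
  simp only [mu, map_smul, LinearMap.smul_apply, smul_eq_mul]
  ring

theorem mu_zero (j : ℕ) : T.mu j 0 = 0 := by simp [mu]

theorem mu_N (j : ℕ) (x : V) : T.mu j (T.N x) = T.mu (j + 1) x := by
  show T.B ((T.S ^ j) (T.N (T.N x))) (T.N x) = T.B ((T.S ^ (j + 1)) (T.N x)) x
  rw [← T.M_adj, ← Module.End.mul_apply, ← Module.End.mul_apply, (T.commute_M_S.pow_right j).eq,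
    mul_assoc, ← T.commute_N_M.eq, T.N_mul_M, pow_succ, Module.End.mul_apply]

theorem mu_S (j : ℕ) (x : V) : T.mu j (T.S x) = T.mu (j + 2) x := by
  show T.B ((T.S ^ j) (T.N (T.S x))) (T.S x) = T.B ((T.S ^ (j + 2)) (T.N x)) x
  rw [← T.S_adj]
  simp only [← Module.End.mul_apply]
  rw [show T.S * (T.S ^ j * (T.N * T.S)) = T.S ^ (j + 2) * T.N by
    rw [T.commute_N_S.eq, ← mul_assoc, ← mul_assoc, ← pow_succ', ← pow_succ]]

theorem mu_S_pow (m j : ℕ) (x : V) : T.mu j ((T.S ^ m) x) = T.mu (j + 2 * m) x := by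
  induction m generalizing x with
  | zero => rfl
  | succ m ih =>
    rw [pow_succ, Module.End.mul_apply, ih, T.mu_S]
    congr 1

theorem mu_S_pow_N (m j : ℕ) (x : V) : T.mu j ((T.S ^ m) (T.N x)) = T.mu (j + 2 * m + 1) x := by
  rw [T.mu_S_pow, T.mu_N]

theorem mu_hi {k j : ℕ} {x : V} (h : (T.N ^ k) x = 0) (hj : k ≤ 2 * j + 1) : T.mu j x = 0 := by
  rw [mu, T.S_pow_eq, ← Module.End.mul_apply, mul_assoc, ← pow_succ, Module.End.mul_apply,
    T.pow_zero_of_le h hj, map_zero, map_zero, LinearMap.zero_apply]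

theorem S_pow_N_top {k j e : ℕ} {x : V} (h : (T.N ^ k) x = 0) (hje : 2 * j + e + 1 = k) :
    (T.S ^ j) ((T.N ^ e) x) = (T.N ^ (2 * j + e)) x := by
  rw [T.S_pow_eq, Module.End.mul_apply, T.N_pow_apply]
  refine T.Ui_pow_fix ?_ j
  rw [← Module.End.mul_apply, ← pow_succ', hje, h]

theorem M_pow_top {k a : ℕ} {x : V} (h : (T.N ^ k) x = 0) (hak : a + 1 = k) : (T.M ^ a) x = (T.N ^ a) x := by
  rw [T.M_pow_eq, Module.End.mul_apply]
  refine T.Ui_pow_fix ?_ a
  rw [← Module.End.mul_apply, ← pow_succ', hak, h]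

theorem top_symm {k : ℕ} {x y : V} (hy : (T.N ^ (k + 1)) y = 0) :
    T.B ((T.N ^ k) x) y = T.B ((T.N ^ k) y) x := by
  rw [T.N_pow_adj, T.M_pow_top hy rfl, T.B_symm]

/-- The form on the span of one vector is given by the quadratic functions. -/
theorem self_rec {r : ℕ} {x : V} (h : ∀ j, r ≤ j → T.mu j x = 0) :
    ∀ (d j : ℕ), r ≤ j → T.B ((T.S ^ j) ((T.N ^ d) x)) x = 0 := by
  intro d
  induction d using Nat.strong_induction_on with
  | _ d ih =>
    intro j hj
    match d, ih with
    | 0, _ => exact T.S_pow_self j x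
    | 1, _ => rw [pow_one]; exact h j hj
    | d + 2, ih =>
      have e : T.S ^ j * T.N ^ (d + 2) = T.S ^ (j + 1) * T.N ^ d + T.S ^ (j + 1) * T.N ^ (d + 1) := by
        rw [show d + 2 = 2 + d by ring, pow_add T.N 2 d, pow_two, T.N_sq, add_mul, mul_add, pow_succ, pow_succ' T.N,
          T.commute_N_S.eq]
        simp only [mul_assoc]
      rw [← Module.End.mul_apply, e, LinearMap.add_apply, map_add, LinearMap.add_apply, Module.End.mul_apply,
        Module.End.mul_apply, ih d (by omega) _ (by omega), ih (d + 1) (by omega) _ (by omega), add_zero]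

theorem self_zero {r d : ℕ} {x : V} (h : ∀ j, r ≤ j → T.mu j x = 0) (hd : 2 * r ≤ d) :
    T.B ((T.N ^ d) x) x = 0 := by
  suffices hs : ∀ (j d : ℕ), 2 * j ≤ d → ∀ s, r ≤ j + s → T.B ((T.S ^ s) ((T.N ^ d) x)) x = 0 by
    simpa using hs r d hd 0 (by omega)
  intro j
  induction j with
  | zero => intro d _ s hs; exact T.self_rec h d s (by omega)
  | succ j ih =>
    intro d hd s hs
    obtain ⟨e, rfl⟩ : ∃ e, d = e + 2 := ⟨d - 2, by omega⟩
    have e1 : T.S ^ s * T.N ^ (e + 2) = T.S ^ (s + 1) * T.N ^ e + T.S ^ (s + 1) * T.N ^ (e + 1) := by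
      rw [show e + 2 = 2 + e by ring, pow_add T.N 2 e, pow_two, T.N_sq, add_mul, mul_add, pow_succ, pow_succ' T.N,
        T.commute_N_S.eq]
      simp only [mul_assoc]
    rw [← Module.End.mul_apply, e1, LinearMap.add_apply, map_add, LinearMap.add_apply, Module.End.mul_apply,
      Module.End.mul_apply, ih e (by omega) _ (by omega), ih (e + 1) (by omega) _ (by omega), add_zero]

end Sys

section two

variable {V' : Type w} [AddCommGroup V'] [Module F V'] {T : Sys F V} {T' : Sys F V'}

theorem self_eq {x : V} {x' : V'} (h : ∀ j, T.mu j x = T'.mu j x') :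
    ∀ d, T.B ((T.N ^ d) x) x = T'.B ((T'.N ^ d) x') x' := by
  suffices hs : ∀ d j, T.B ((T.S ^ j) ((T.N ^ d) x)) x = T'.B ((T'.S ^ j) ((T'.N ^ d) x')) x' from
    fun d => by simpa using hs d 0
  intro d
  induction d using Nat.strong_induction_on with
  | _ d ih =>
    intro j
    match d, ih with
    | 0, _ => simp [T.S_pow_self j x, T'.S_pow_self j x']
    | 1, _ => rw [pow_one, pow_one]; exact h j
    | d + 2, ih =>
      rw [← Module.End.mul_apply, ← Module.End.mul_apply,
        show T.S ^ j * T.N ^ (d + 2) = T.S ^ (j + 1) * T.N ^ d + T.S ^ (j + 1) * T.N ^ (d + 1) by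
          rw [show d + 2 = 2 + d by ring, pow_add T.N 2 d, pow_two, T.N_sq, add_mul, mul_add, pow_succ,
            pow_succ' T.N, T.commute_N_S.eq]
          simp only [mul_assoc],
        show T'.S ^ j * T'.N ^ (d + 2) = T'.S ^ (j + 1) * T'.N ^ d + T'.S ^ (j + 1) * T'.N ^ (d + 1) by
          rw [show d + 2 = 2 + d by ring, pow_add T'.N 2 d, pow_two, T'.N_sq, add_mul, mul_add, pow_succ,
            pow_succ' T'.N, T'.commute_N_S.eq]
          simp only [mul_assoc]]
      simp only [LinearMap.add_apply, map_add, Module.End.mul_apply]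
      rw [ih d (by omega), ih (d + 1) (by omega)]

theorem pair_eq {k : ℕ} {x y : V} {x' y' : V'} (hx : (T.N ^ k) x = 0) (hx' : (T'.N ^ k) x' = 0)
    (h : ∀ l < k, T.B ((T.N ^ l) x) y = T'.B ((T'.N ^ l) x') y') :
    ∀ b a, T.B ((T.N ^ a) x) ((T.N ^ b) y) = T'.B ((T'.N ^ a) x') ((T'.N ^ b) y') := by
  suffices hs : ∀ b a, T.B ((T.M ^ b) ((T.N ^ a) x)) y = T'.B ((T'.M ^ b) ((T'.N ^ a) x')) y' by
    intro b a
    rw [← T.M_pow_adj, ← T'.M_pow_adj, hs]
  intro b
  induction b with
  | zero =>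
    intro a
    by_cases ha : a < k
    · simpa using h a ha
    · simp [T.pow_zero_of_le hx (not_lt.1 ha), T'.pow_zero_of_le hx' (not_lt.1 ha)]
  | succ b ih =>
    suffices hd : ∀ c a, k ≤ a + c → T.B ((T.M ^ (b + 1)) ((T.N ^ a) x)) y =
        T'.B ((T'.M ^ (b + 1)) ((T'.N ^ a) x')) y' from fun a => hd k a (by omega)
    intro c
    induction c with
    | zero => intro a ha; simp [T.pow_zero_of_le hx (show k ≤ a by omega), T'.pow_zero_of_le hx' (show k ≤ a by omega)]
    | succ c ihc =>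
      intro a ha
      have e : T.M ^ (b + 1) * T.N ^ a = T.M ^ b * T.N ^ (a + 1) + T.M ^ (b + 1) * T.N ^ (a + 1) := by
        conv_lhs =>
          rw [pow_succ, mul_assoc]
          arg 2
          rw [T.M_eq_rec]
        rw [add_mul, mul_add, pow_succ' T.N, pow_succ T.M, T.commute_N_M.eq]
        simp only [mul_assoc]
      have e' : T'.M ^ (b + 1) * T'.N ^ a = T'.M ^ b * T'.N ^ (a + 1) + T'.M ^ (b + 1) * T'.N ^ (a + 1) := by
        conv_lhs =>
          rw [pow_succ, mul_assoc]
          arg 2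
          rw [T'.M_eq_rec]
        rw [add_mul, mul_add, pow_succ' T'.N, pow_succ T'.M, T'.commute_N_M.eq]
        simp only [mul_assoc]
      rw [← Module.End.mul_apply, ← Module.End.mul_apply, e, e']
      simp only [LinearMap.add_apply, map_add, Module.End.mul_apply]
      rw [ih (a + 1), ihc (a + 1) (by omega)]

end two

end Cfsg.Agent.Small.SpEven
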