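import Mathlib
import Cfsg.Agent.Lib.Small.ClassNumberSp2.Basic

/-!
The indecomposable summands and their spans.
-/

set_option autoImplicit false
set_option linter.unusedSectionVars false
set_option linter.style.haveILetI false

namespace Cfsg.Agent.Small.SpEven

universe u v w

/-- the two kinds of summands -/
inductive Kind where
  /-- one block of size `2 * i` -/
  | V (i : ℕ)
  /-- two blocks of size `k` -/
  | W (k : ℕ)
deriving DecidableEq

variable {F : Type u} [Field F] [CharP F 2]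

theorem artin_schreier_exists [Fintype F] : ∃ d : F, ∀ c : F, c ^ 2 + c ≠ d := by
  by_contra h
  push Not at h
  have hs : Function.Surjective fun c : F => c ^ 2 + c := h
  have hi := Finite.injective_iff_surjective.2 hs
  have : (0 : F) = 1 := hi (show (0 : F) ^ 2 + 0 = 1 ^ 2 + 1 by simp [CharTwo.add_self_eq_zero])
  exact zero_ne_one this

variable (F) in
/-- a fixed element outside the image of `c ↦ c ^ 2 + c` -/
noncomputable def delta : F := Classical.epsilon fun d : F => ∀ c : F, c ^ 2 + c ≠ d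

theorem delta_spec [Fintype F] : ∀ c : F, c ^ 2 + c ≠ delta F :=
  Classical.epsilon_spec (p := fun d : F => ∀ c : F, c ^ 2 + c ≠ d) artin_schreier_exists

theorem artin_schreier [Fintype F] (d : F) (hd : ∀ c : F, c ^ 2 + c ≠ d) :
    ∃ c : F, c ^ 2 + c = d + delta F := by
  classical
  let f : F →+ F := AddMonoidHom.mk' (fun c => c ^ 2 + c) fun a b => by rw [CharTwo.add_sq]; ring
  have hk : Nat.card f.ker = 2 := by
    rw [Nat.card_eq_two_iff]
    refine ⟨0, ⟨1, show (1 : F) ^ 2 + 1 = 0 by simp [CharTwo.add_self_eq_zero]⟩,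
      fun h => zero_ne_one (congrArg Subtype.val h), Set.eq_univ_of_forall fun x => ?_⟩
    have hx : (x : F) * ((x : F) + 1) = 0 := by
      have h : (x : F) ^ 2 + (x : F) = 0 := x.2
      linear_combination h
    rcases mul_eq_zero.1 hx with h | h
    · exact Or.inl (Subtype.ext h)
    · exact Or.inr (Subtype.ext (CharTwo.add_eq_zero.1 h))
  have hidx : f.range.index = 2 := by
    have h1 := f.range.card_mul_index
    have h2 := f.ker.card_mul_index
    rw [AddSubgroup.index_ker, hk] at h2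
    have hpos : 0 < Nat.card f.range := Nat.card_pos
    rw [← h2, mul_comm 2 (Nat.card f.range)] at h1
    exact Nat.eq_of_mul_eq_mul_left hpos h1
  have hd' : d ∉ f.range := fun ⟨c, hc⟩ => hd c hc
  have hδ : delta F ∉ f.range := fun ⟨c, hc⟩ => delta_spec c hc
  exact ((AddSubgroup.add_mem_iff_of_index_two hidx).2 (by simp [hd', hδ]) : d + delta F ∈ f.range)

theorem exists_sqrt [Fintype F] (a : F) : ∃ c : F, c ^ 2 = a := by
  obtain ⟨c, hc⟩ := FiniteField.isSquare_of_char_two (ringChar.eq_iff.2 ‹CharP F 2›) a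
  exact ⟨c, by rw [hc, pow_two]⟩

variable {V : Type v} [AddCommGroup V] [Module F V]

namespace Sys

variable (T : Sys F V)

/-- a summand of one block -/
def IsV (i : ℕ) (v : V) : Prop := 1 ≤ i ∧ (T.N ^ (2 * i)) v = 0 ∧ T.mu (i - 1) v ≠ 0

/-- a summand of two blocks -/
def IsW (k : ℕ) (v w : V) : Prop :=
  1 ≤ k ∧ (T.N ^ k) v = 0 ∧ (T.N ^ k) w = 0 ∧ T.B ((T.N ^ (k - 1)) v) w ≠ 0 ∧
    T.B ((T.N ^ (k - 1)) v) v = 0 ∧ T.B ((T.N ^ (k - 1)) w) w = 0

/-- the family of one vector -/
def famV (k : ℕ) (v : V) : Fin k → V := fun a => (T.N ^ (a : ℕ)) v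

/-- the family of two vectors -/
def famW (k : ℕ) (v w : V) : Fin k ⊕ Fin k → V := Sum.elim (T.famV k v) (T.famV k w)

theorem top_mu {i : ℕ} {v : V} (hi : 1 ≤ i) (hv : (T.N ^ (2 * i)) v = 0) :
    T.B ((T.N ^ (2 * i - 1)) v) v = T.mu (i - 1) v := by
  rw [mu, ← pow_one T.N, T.S_pow_N_top hv (show 2 * (i - 1) + 1 + 1 = 2 * i by omega),
    show 2 * (i - 1) + 1 = 2 * i - 1 by omega, pow_one]

theorem B_shift {k a l : ℕ} {x y : V} (hx : (T.N ^ k) x = 0) (hak : a < k) :
    T.B ((T.N ^ l) x) ((T.N ^ (k - 1 - a)) y) =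
      if l < a then T.B ((T.N ^ l) x) ((T.N ^ (k - 1 - a)) y)
      else if l = a then T.B ((T.N ^ (k - 1)) x) y else 0 := by
  split_ifs with h1 h2
  · rfl
  · subst h2
    rw [← T.M_pow_adj, T.M_pow_eq, Module.End.mul_apply, T.N_pow_apply, show k - 1 - l + l = k - 1 by omega,
      T.Ui_pow_fix (by rw [← Module.End.mul_apply, ← pow_succ', show k - 1 + 1 = k by omega, hx])]
  · rw [← T.M_pow_adj, T.M_pow_eq, Module.End.mul_apply, T.N_pow_apply, T.pow_zero_of_le hx (by omega),
      map_zero, map_zero, LinearMap.zero_apply]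

theorem sum_shift {k a : ℕ} {x y : V} (hx : (T.N ^ k) x = 0) (c : Fin k → F) (ha : a < k)
    (hc : ∀ l : Fin k, (l : ℕ) < a → c l = 0) :
    ∑ l : Fin k, c l * T.B ((T.N ^ (l : ℕ)) x) ((T.N ^ (k - 1 - a)) y) =
      c ⟨a, ha⟩ * T.B ((T.N ^ (k - 1)) x) y := by
  rw [Finset.sum_eq_single ⟨a, ha⟩]
  · rw [T.B_shift hx ha, if_neg (lt_irrefl a), if_pos rfl]
  · intro l _ hl
    have hl' : (l : ℕ) ≠ a := fun h => hl (Fin.ext h)
    rcases lt_or_gt_of_ne hl' with h | h
    · rw [hc l h, zero_mul]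
    · rw [T.B_shift hx ha, if_neg (by omega), if_neg hl', mul_zero]
  · exact fun h => absurd (Finset.mem_univ _) h

theorem IsV.coeff_zero {T : Sys F V} {i : ℕ} {v : V} (h : T.IsV i v) (c : Fin (2 * i) → F)
    (hc : ∀ b, T.B (∑ l, c l • T.famV (2 * i) v l) (T.famV (2 * i) v b) = 0) : c = 0 := by
  obtain ⟨hi, hv, hμ⟩ := h
  suffices hs : ∀ (a : ℕ) (ha : a < 2 * i), c ⟨a, ha⟩ = 0 from funext fun l => hs l l.2
  intro a
  induction a using Nat.strong_induction_on with
  | _ a ih =>
    intro ha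
    have h1 := hc ⟨2 * i - 1 - a, by omega⟩
    simp only [famV, map_sum, LinearMap.sum_apply, map_smul, LinearMap.smul_apply, smul_eq_mul] at h1
    rw [T.sum_shift hv c ha (fun l hl => ih l hl _), T.top_mu hi hv] at h1
    exact (mul_eq_zero.1 h1).resolve_right hμ

theorem IsW.top_swap {T : Sys F V} {k : ℕ} {v w : V} (h : T.IsW k v w) :
    T.B ((T.N ^ (k - 1)) w) v = T.B ((T.N ^ (k - 1)) v) w := by
  obtain ⟨hk, hv, hw, -, -, -⟩ := h
  exact (T.top_symm (k := k - 1) (by rwa [show k - 1 + 1 = k by omega])).symm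

theorem IsW.symm {T : Sys F V} {k : ℕ} {v w : V} (h : T.IsW k v w) : T.IsW k w v :=
  ⟨h.1, h.2.2.1, h.2.1, by rw [h.top_swap]; exact h.2.2.2.1, h.2.2.2.2.2, h.2.2.2.2.1⟩

theorem IsW.coeff_zero {T : Sys F V} {k : ℕ} {v w : V} (h : T.IsW k v w) (c : Fin k ⊕ Fin k → F)
    (hc : ∀ b, T.B (∑ l, c l • T.famW k v w l) (T.famW k v w b) = 0) : c = 0 := by
  obtain ⟨hk, hv, hw, he, hvv, hww⟩ := id h
  suffices hs : ∀ (a : ℕ) (ha : a < k), c (Sum.inl ⟨a, ha⟩) = 0 ∧ c (Sum.inr ⟨a, ha⟩) = 0 by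
    funext l
    rcases l with l | l
    · exact (hs l l.2).1
    · exact (hs l l.2).2
  intro a
  induction a using Nat.strong_induction_on with
  | _ a ih =>
    intro ha
    have h1 := hc (Sum.inl ⟨k - 1 - a, by omega⟩)
    have h2 := hc (Sum.inr ⟨k - 1 - a, by omega⟩)
    simp only [famW, famV, Sum.elim_inl, Sum.elim_inr, Fintype.sum_sum_type, map_add, LinearMap.add_apply, map_sum,
      LinearMap.sum_apply, map_smul, LinearMap.smul_apply, smul_eq_mul] at h1 h2
    rw [T.sum_shift hv (fun l => c (Sum.inl l)) ha (fun l hl => (ih l hl _).1),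
      T.sum_shift hw (fun l => c (Sum.inr l)) ha (fun l hl => (ih l hl _).2)] at h1 h2
    rw [hvv, mul_zero, zero_add, h.top_swap] at h1
    rw [hww, mul_zero, add_zero] at h2
    exact ⟨(mul_eq_zero.1 h2).resolve_right he, (mul_eq_zero.1 h1).resolve_right he⟩

theorem IsV.linearIndependent {T : Sys F V} {i : ℕ} {v : V} (h : T.IsV i v) :
    LinearIndependent F (T.famV (2 * i) v) :=
  Fintype.linearIndependent_iff.2 fun c hc l =>
    congrFun (h.coeff_zero c fun b => by rw [hc, map_zero, LinearMap.zero_apply]) l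

theorem IsW.linearIndependent {T : Sys F V} {k : ℕ} {v w : V} (h : T.IsW k v w) :
    LinearIndependent F (T.famW k v w) :=
  Fintype.linearIndependent_iff.2 fun c hc l =>
    congrFun (h.coeff_zero c fun b => by rw [hc, map_zero, LinearMap.zero_apply]) l

/-- non-degenerate on a subspace -/
def ND (W : Submodule F V) : Prop := ∀ x ∈ W, (∀ y ∈ W, T.B x y = 0) → x = 0

/-- closed under the isometry -/
def Inv (W : Submodule F V) : Prop := ∀ x ∈ W, T.N x ∈ W

theorem nd_of_family {ι : Type*} [Fintype ι] (x : ι → V)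
    (h : ∀ c : ι → F, (∀ b, T.B (∑ l, c l • x l) (x b) = 0) → c = 0) :
    T.ND (Submodule.span F (Set.range x)) := by
  intro z hz hall
  obtain ⟨c, rfl⟩ := (Submodule.mem_span_range_iff_exists_fun F).1 hz
  rw [h c fun b => hall _ (Submodule.subset_span (Set.mem_range_self b))]
  simp

theorem inv_famV {k : ℕ} {v : V} (hv : (T.N ^ k) v = 0) : T.Inv (Submodule.span F (Set.range (T.famV k v))) := by
  intro x hx
  have h : Submodule.span F (Set.range (T.famV k v)) ≤
      (Submodule.span F (Set.range (T.famV k v))).comap T.N := by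
    rw [Submodule.span_le]
    rintro _ ⟨a, rfl⟩
    show T.N ((T.N ^ (a : ℕ)) v) ∈ Submodule.span F (Set.range (T.famV k v))
    rw [← Module.End.mul_apply, ← pow_succ']
    by_cases ha : (a : ℕ) + 1 < k
    · exact Submodule.subset_span ⟨⟨_, ha⟩, rfl⟩
    · rw [T.pow_zero_of_le hv (by omega)]; exact zero_mem _
  exact h hx

theorem span_famW (k : ℕ) (v w : V) : Submodule.span F (Set.range (T.famW k v w)) =
    Submodule.span F (Set.range (T.famV k v)) ⊔ Submodule.span F (Set.range (T.famV k w)) := by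
  rw [famW, Set.Sum.elim_range, Submodule.span_union]

theorem Inv.sup {T : Sys F V} {W W' : Submodule F V} (h : T.Inv W) (h' : T.Inv W') : T.Inv (W ⊔ W') := by
  intro x hx
  obtain ⟨a, ha, b, hb, rfl⟩ := Submodule.mem_sup.1 hx
  rw [map_add]
  exact Submodule.add_mem_sup (h a ha) (h' b hb)

theorem inv_famW {k : ℕ} {v w : V} (hv : (T.N ^ k) v = 0) (hw : (T.N ^ k) w = 0) :
    T.Inv (Submodule.span F (Set.range (T.famW k v w))) := by
  rw [T.span_famW]; exact (T.inv_famV hv).sup (T.inv_famV hw)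

theorem IsV.nd {T : Sys F V} {i : ℕ} {v : V} (h : T.IsV i v) :
    T.ND (Submodule.span F (Set.range (T.famV (2 * i) v))) :=
  T.nd_of_family _ h.coeff_zero

theorem IsW.nd {T : Sys F V} {k : ℕ} {v w : V} (h : T.IsW k v w) :
    T.ND (Submodule.span F (Set.range (T.famW k v w))) :=
  T.nd_of_family _ h.coeff_zero

theorem Inv.pow {T : Sys F V} {W : Submodule F V} (h : T.Inv W) : ∀ (a : ℕ), ∀ x ∈ W, (T.N ^ a) x ∈ W
  | 0, x, hx => hx
  | a + 1, x, hx => by rw [pow_succ', Module.End.mul_apply]; exact h _ (h.pow a x hx)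

theorem famV_le {W : Submodule F V} (hW : T.Inv W) {k : ℕ} {v : V} (hv : v ∈ W) :
    Submodule.span F (Set.range (T.famV k v)) ≤ W := by
  rw [Submodule.span_le]
  rintro _ ⟨a, rfl⟩
  exact hW.pow a v hv

theorem famW_le {W : Submodule F V} (hW : T.Inv W) {k : ℕ} {v w : V} (hv : v ∈ W) (hw : w ∈ W) :
    Submodule.span F (Set.range (T.famW k v w)) ≤ W := by
  rw [T.span_famW]; exact sup_le (T.famV_le hW hv) (T.famV_le hW hw)

theorem IsV.span_eq [FiniteDimensional F V] {T : Sys F V} {i : ℕ} {v v' : V} (h : T.IsV i v) (h' : T.IsV i v')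
    (hm : v' ∈ Submodule.span F (Set.range (T.famV (2 * i) v))) :
    Submodule.span F (Set.range (T.famV (2 * i) v')) = Submodule.span F (Set.range (T.famV (2 * i) v)) := by
  refine Submodule.eq_of_le_of_finrank_eq (T.famV_le (T.inv_famV h.2.1) hm) ?_
  rw [finrank_span_eq_card h.linearIndependent, finrank_span_eq_card h'.linearIndependent]

theorem IsW.span_eq [FiniteDimensional F V] {T : Sys F V} {k : ℕ} {v w v' w' : V} (h : T.IsW k v w)
    (h' : T.IsW k v' w') (hv : v' ∈ Submodule.span F (Set.range (T.famW k v w)))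
    (hw : w' ∈ Submodule.span F (Set.range (T.famW k v w))) :
    Submodule.span F (Set.range (T.famW k v' w')) = Submodule.span F (Set.range (T.famW k v w)) := by
  refine Submodule.eq_of_le_of_finrank_eq (T.famW_le (T.inv_famW h.2.1 h.2.2.1) hv hw) ?_
  rw [finrank_span_eq_card h.linearIndependent, finrank_span_eq_card h'.linearIndependent]

end Sys

end Cfsg.Agent.Small.SpEven
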