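import Mathlib
import Cfsg.Agent.Lib.Small.ClassNumberSp2.Pieces

/-!
Canonical generators of the summands.
-/

set_option autoImplicit false
set_option linter.unusedSectionVars false
set_option linter.style.haveILetI false

namespace Cfsg.Agent.Small.SpEven

universe u v w

variable {F : Type u} [Field F] [Fintype F] [CharP F 2]
variable {V : Type v} [AddCommGroup V] [Module F V]

namespace Sys

variable (T : Sys F V)

/-- the standard value on one block -/
noncomputable def tV (i : ℕ) (b : Bool) (j : ℕ) : F :=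
  if j + 1 = i then 1 else if j + 2 = i ∧ b = true then delta F else 0

/-- the standard value on the first vector of a pair -/
noncomputable def tW1 (k : ℕ) (b : Bool) (j : ℕ) : F := if 2 * j + 3 = k ∧ b = true then 1 else 0

/-- the standard value on the second vector of a pair -/
noncomputable def tW2 (k : ℕ) (b : Bool) (j : ℕ) : F := if 2 * j + 3 = k ∧ b = true then delta F else 0

/-- standard generator -/
def CanV (i : ℕ) (b : Bool) (v : V) : Prop := T.IsV i v ∧ ∀ j, T.mu j v = tV i b j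

/-- standard generators -/
def CanW (k : ℕ) (b : Bool) (v w : V) : Prop :=
  T.IsW k v w ∧ (∀ a, a < k → T.B ((T.N ^ a) v) w = if a + 1 = k then 1 else 0) ∧
    (∀ j, T.mu j v = tW1 k b j) ∧ ∀ j, T.mu j w = tW2 k b j

theorem self_zero' {r s d : ℕ} {x : V} (h : ∀ j, r ≤ j → T.mu j x = 0) (hd : r ≤ s + d / 2) :
    T.B ((T.S ^ s) ((T.N ^ d) x)) x = 0 := by
  induction d using Nat.strong_induction_on generalizing s with
  | _ d ih =>
    rcases Nat.lt_or_ge d 2 with h2 | h2
    · exact T.self_rec h d s (by omega)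
    · obtain ⟨e, rfl⟩ : ∃ e, d = e + 2 := ⟨d - 2, by omega⟩
      have e1 : T.S ^ s * T.N ^ (e + 2) = T.S ^ (s + 1) * T.N ^ e + T.S ^ (s + 1) * T.N ^ (e + 1) := by
        rw [show e + 2 = 2 + e by ring, pow_add T.N 2 e, pow_two, T.N_sq, add_mul, mul_add, pow_succ,
          pow_succ' T.N, T.commute_N_S.eq]
        simp only [mul_assoc]
      rw [← Module.End.mul_apply, e1, LinearMap.add_apply, map_add, LinearMap.add_apply, Module.End.mul_apply,
        Module.End.mul_apply, ih e (by omega) (s := s + 1) (by omega), ih (e + 1) (by omega) (s := s + 1) (by omega),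
        add_zero]

theorem cross_N (j m : ℕ) (x : V) :
    T.B ((T.S ^ j) x) ((T.N ^ m) x) = T.B ((T.S ^ j) ((T.N ^ m) x)) x := by
  rw [T.S_pow_adj, T.B_symm, T.S_pow_adj, T.B_symm, T.S_pow_adj]

theorem cross_SN (j m : ℕ) (x : V) :
    T.B ((T.S ^ j) x) ((T.S ^ m) (T.N x)) = T.mu (j + m) x := by
  rw [mu, T.B_symm, ← T.S_pow_adj, ← Module.End.mul_apply, ← pow_add]

theorem mu_shift_V {m : ℕ} {v : V} (c : F) (j : ℕ) :
    T.mu j (v + c • (T.S ^ m) (T.N v)) =
      T.mu j v + c ^ 2 * T.mu (j + 2 * m + 1) v + c * T.mu (j + 1 + m) v := by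
  rw [T.mu_add, T.mu_smul, T.mu_S_pow_N, map_smul, smul_eq_mul, T.cross_SN]

theorem mu_hi_V {i j : ℕ} {v : V} (hv : (T.N ^ (2 * i)) v = 0) (hj : i ≤ j) : T.mu j v = 0 :=
  T.mu_hi hv (by omega)

theorem Inv.Ui_mem {T : Sys F V} {W : Submodule F V} (h : T.Inv W) :
    ∀ (k : ℕ) {x : V}, (T.N ^ k) x = 0 → x ∈ W → T.Ui x ∈ W := by
  intro k
  induction k with
  | zero => intro x hx _; rw [show x = 0 from hx, map_zero]; exact zero_mem _
  | succ k ih =>
    intro x hx hxW
    have e : T.Ui x = x + T.Ui (T.N x) := by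
      rw [N, LinearMap.add_apply, Module.End.one_apply, map_add, ← Module.End.mul_apply, T.Ui_mul_U,
        Module.End.one_apply, ← add_assoc, add_self_eq (F := F), zero_add]
    rw [e]
    exact W.add_mem hxW (ih (by rwa [← Module.End.mul_apply, ← pow_succ]) (h x hxW))

theorem Inv.S_pow_mem {T : Sys F V} {W : Submodule F V} (h : T.Inv W) {k : ℕ} {x : V}
    (_hx : (T.N ^ k) x = 0) (m : ℕ) {y : V} (hy : y ∈ W) (hky : (T.N ^ k) y = 0) : (T.S ^ m) y ∈ W := by
  rw [T.S_pow_eq, Module.End.mul_apply]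
  have hz : (T.N ^ k) ((T.N ^ (2 * m)) y) = 0 := by
    rw [T.N_pow_apply, T.pow_zero_of_le hky (Nat.le_add_right _ _)]
  have hzW := h.pow (2 * m) y hy
  generalize (T.N ^ (2 * m)) y = z at hz hzW
  induction m generalizing z with
  | zero => exact hzW
  | succ m ih =>
    rw [pow_succ, Module.End.mul_apply]
    refine ih _ ?_ (h.Ui_mem k hz hzW)
    rw [← Module.End.mul_apply, (T.commute_N_Ui.pow_left k).eq, Module.End.mul_apply, hz, map_zero]

theorem IsV.mem {T : Sys F V} {i : ℕ} {v : V} (h : T.IsV i v) :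
    v ∈ Submodule.span F (Set.range (T.famV (2 * i) v)) :=
  Submodule.subset_span ⟨⟨0, by have := h.1; omega⟩, rfl⟩

theorem exists_canV {i : ℕ} {v : V} (h : T.IsV i v) (b : Bool) (_hb : b = true → 2 ≤ i)
    (hc : 2 ≤ i → ∃ c : F, c ^ 2 + c = T.mu (i - 2) v / T.mu (i - 1) v + (if b = true then delta F else 0)) :
    ∃ v', T.CanV i b v' ∧ v' ∈ Submodule.span F (Set.range (T.famV (2 * i) v)) := by
  obtain ⟨hi, hv, hμ⟩ := id h
  set C := Submodule.span F (Set.range (T.famV (2 * i) v)) with hC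
  have hinv : T.Inv C := T.inv_famV hv
  have hCk : ∀ x ∈ C, (T.N ^ (2 * i)) x = 0 := by
    intro x hx
    have : C ≤ LinearMap.ker (T.N ^ (2 * i)) := by
      rw [hC, Submodule.span_le]
      rintro _ ⟨a, rfl⟩
      show (T.N ^ (2 * i)) ((T.N ^ (a : ℕ)) v) = 0
      rw [T.N_pow_apply, T.pow_zero_of_le hv (by omega)]
    exact this hx
  suffices hs : ∀ d r : ℕ, r + d = i - 1 → ∃ x ∈ C, ∀ j, r ≤ j → T.mu j x = tV i b j by
    obtain ⟨x, hx, hx'⟩ := hs (i - 1) 0 (by omega)
    refine ⟨x, ⟨⟨hi, hCk x hx, ?_⟩, fun j => hx' j (Nat.zero_le j)⟩, hx⟩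
    rw [hx' _ (Nat.zero_le _), tV, if_pos (by omega)]
    exact one_ne_zero
  intro d
  induction d with
  | zero =>
    intro r hr
    obtain ⟨s, hs⟩ := exists_sqrt (T.mu (i - 1) v)⁻¹
    refine ⟨s • v, C.smul_mem _ h.mem, fun j hj => ?_⟩
    rw [T.mu_smul, hs, tV]
    rcases Nat.lt_or_ge j i with hji | hji
    · rw [show j = i - 1 by omega, if_pos (by omega), inv_mul_cancel₀ hμ]
    · rw [T.mu_hi_V hv hji, mul_zero, if_neg (by omega), if_neg (by omega)]
  | succ d ih =>
    intro r hr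
    obtain ⟨x, hx, hx'⟩ := ih (r + 1) (by omega)
    have hxk := hCk x hx
    have htop : T.mu (i - 1) x = 1 := by rw [hx' _ (by omega), tV, if_pos (by omega)]
    rcases Nat.eq_or_lt_of_le (show r + 2 ≤ i by omega) with he | hlt
    · -- the second coefficient, from the vector we started with
      obtain ⟨s, hs⟩ := exists_sqrt (T.mu (i - 1) v)⁻¹
      obtain ⟨c, hcc⟩ := hc (by omega)
      have hv' : (T.N ^ (2 * i)) (s • v) = 0 := by rw [map_smul, hv, smul_zero]
      refine ⟨s • v + c • (T.S ^ 0) (T.N (s • v)), C.add_mem (C.smul_mem _ h.mem)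
        (C.smul_mem _ (hinv _ (C.smul_mem _ h.mem))), fun j hj => ?_⟩
      rw [T.mu_shift_V c j, show j + 2 * 0 + 1 = j + 1 by ring, show j + 1 + 0 = j + 1 by ring, T.mu_smul,
        T.mu_smul, hs, tV]
      rcases Nat.lt_or_ge j (i - 1) with h1 | h1
      · have hj' : j = i - 2 := by omega
        subst hj'
        rw [if_neg (by omega), show i - 2 + 1 = i - 1 by omega, inv_mul_cancel₀ hμ, mul_one, mul_one]
        rw [← div_eq_inv_mul, add_assoc, hcc, ← add_assoc, CharTwo.add_self_eq_zero, zero_add]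
        exact if_congr ⟨fun hb' => ⟨by omega, hb'⟩, fun hb' => hb'.2⟩ rfl rfl
      · rw [T.mu_hi_V hv (show i ≤ j + 1 by omega), mul_zero, mul_zero, mul_zero, add_zero, add_zero]
        rcases Nat.lt_or_ge j i with h2 | h2
        · rw [show j = i - 1 by omega, if_pos (by omega), inv_mul_cancel₀ hμ]
        · rw [T.mu_hi_V hv h2, mul_zero, if_neg (by omega), if_neg (by omega)]
    · obtain ⟨m, hm⟩ : ∃ m, i = r + 2 + m := ⟨i - (r + 2), by omega⟩
      refine ⟨x + T.mu r x • (T.S ^ m) (T.N x), C.add_mem hx (C.smul_mem _ ?_), fun j hj => ?_⟩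
      · exact hinv.S_pow_mem hxk m (hinv _ hx) (by rw [← Module.End.mul_apply, ← pow_succ, T.pow_zero_of_le hxk (Nat.le_succ _)])
      rw [T.mu_shift_V, T.mu_hi_V hxk (show i ≤ j + 2 * m + 1 by omega), mul_zero, add_zero]
      rcases Nat.eq_or_lt_of_le hj with rfl | hj
      · rw [show r + 1 + m = i - 1 by omega, htop, mul_one, CharTwo.add_self_eq_zero, tV, if_neg (by omega),
          if_neg (by omega)]
      · rw [T.mu_hi_V hxk (show i ≤ j + 1 + m by omega), mul_zero, add_zero, hx' j hj]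

theorem mu_N_pow (m j : ℕ) (x : V) : T.mu j ((T.N ^ m) x) = T.mu (j + m) x := by
  induction m generalizing j with
  | zero => rfl
  | succ m ih =>
    rw [pow_succ', Module.End.mul_apply, T.mu_N, ih]
    congr 1
    ring

theorem mu_top_W {k : ℕ} {v w : V} (h : T.IsW k v w) {j : ℕ} (hj : k ≤ 2 * j + 2) :
    T.mu j v = 0 := by
  obtain ⟨hk, hv, -, -, hvv, -⟩ := h
  rcases Nat.lt_or_ge (2 * j + 1) k with hjk | hjk
  · rw [mu, ← pow_one T.N, T.S_pow_N_top hv (show 2 * j + 1 + 1 = k by omega),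
      show 2 * j + 1 = k - 1 by omega]
    exact hvv
  · exact T.mu_hi hv hjk

theorem B_S_N {k p m : ℕ} {x y : V} (hx : (T.N ^ k) x = 0) (hpm : k ≤ 2 * p + m + 1) :
    T.B ((T.S ^ p) x) ((T.N ^ m) y) = if 2 * p + m + 1 = k then T.B ((T.N ^ (k - 1)) x) y else 0 := by
  rw [← T.M_pow_adj, T.M_pow_eq, Module.End.mul_apply, T.S_pow_eq, ← Module.End.mul_apply, ← Module.End.mul_apply,
    mul_assoc, (T.commute_N_Ui.pow_pow m p).left_comm, ← mul_assoc, ← pow_add, ← pow_add, Module.End.mul_apply,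
    show m + 2 * p = 2 * p + m by ring]
  split_ifs with h
  · rw [show k - 1 = 2 * p + m by omega]
    rw [T.Ui_pow_fix (by rw [← Module.End.mul_apply, ← pow_succ', T.pow_zero_of_le hx (by omega)])]
  · rw [T.pow_zero_of_le hx (by omega), map_zero, map_zero, LinearMap.zero_apply]

theorem B_N_N_top {k a m : ℕ} {x y : V} (hx : (T.N ^ k) x = 0) (ham : k ≤ a + m + 1) :
    T.B ((T.N ^ a) x) ((T.N ^ m) y) = if a + m + 1 = k then T.B ((T.N ^ (k - 1)) x) y else 0 := by
  rw [← T.M_pow_adj, T.M_pow_eq, Module.End.mul_apply, T.N_pow_apply, show m + a = a + m by ring]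
  split_ifs with h
  · rw [show k - 1 = a + m by omega]
    rw [T.Ui_pow_fix (by rw [← Module.End.mul_apply, ← pow_succ', T.pow_zero_of_le hx (by omega)])]
  · rw [T.pow_zero_of_le hx (by omega), map_zero, map_zero, LinearMap.zero_apply]

theorem mu_shift_W {k j m : ℕ} {x y : V} (hx : (T.N ^ k) x = 0) (c : F) (hjm : k ≤ 2 * j + 2 + m + 1) :
    T.mu j (x + c • (T.N ^ m) y) = T.mu j x + c ^ 2 * T.mu (j + m) y +
      c * (if 2 * j + 2 + m + 1 = k then T.B ((T.N ^ (k - 1)) x) y else 0) := by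
  rw [T.mu_add, T.mu_smul, map_smul, smul_eq_mul, T.B_S_N hx (by omega),
    show 2 * (j + 1) + m + 1 = 2 * j + 2 + m + 1 by ring]
  rw [T.mu_N_pow]

/-- Adjusting one quadratic coefficient of the first vector of a pair. -/
theorem fix_mu {k a : ℕ} {v w : V} (h : T.IsW k v w) {j : ℕ} (haj : a = 2 * j + 2) (hak : a + 2 ≤ k) (c : F)
    (hq : ∀ l, k ≤ 2 * l + 2 → T.mu l w = 0) :
    ∃ v', T.IsW k v' w ∧ v' ∈ Submodule.span F (Set.range (T.famW k v w)) ∧
      T.mu j v' = T.mu j v + c * T.B ((T.N ^ (k - 1)) v) w ∧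
      (∀ l, j < l → T.mu l v' = T.mu l v) ∧
      ∀ l, a ≤ l → T.B ((T.N ^ l) v') w = T.B ((T.N ^ l) v) w ∧ T.B ((T.N ^ l) w) v' = T.B ((T.N ^ l) w) v := by
  obtain ⟨hk, hv, hw, he, hvv, hww⟩ := id h
  set m := k - 1 - a with hm
  have hpair : ∀ l, a ≤ l → T.B ((T.N ^ l) (v + c • (T.N ^ m) w)) w = T.B ((T.N ^ l) v) w ∧
      T.B ((T.N ^ l) w) (v + c • (T.N ^ m) w) = T.B ((T.N ^ l) w) v := by
    intro l hl
    simp only [map_add, map_smul, LinearMap.add_apply, LinearMap.smul_apply, smul_eq_mul]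
    constructor
    · rw [T.N_pow_apply]
      rcases Nat.eq_or_lt_of_le (show k - 1 ≤ l + m by omega) with h1 | h1
      · rw [← h1, hww, mul_zero, add_zero]
      · rw [T.pow_zero_of_le hw (show k ≤ l + m by omega), map_zero, LinearMap.zero_apply, mul_zero, add_zero]
    · rw [T.B_N_N_top hw (show k ≤ l + m + 1 by omega), hww]
      simp
  have hv' : (T.N ^ k) (v + c • (T.N ^ m) w) = 0 := by
    rw [map_add, map_smul, hv, T.N_pow_apply, T.pow_zero_of_le hw (Nat.le_add_right k m), smul_zero, add_zero]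
  have htopv : (T.N ^ (k - 1)) (v + c • (T.N ^ m) w) = (T.N ^ (k - 1)) v := by
    rw [map_add, map_smul, T.N_pow_apply, T.pow_zero_of_le hw (show k ≤ k - 1 + m by omega), smul_zero, add_zero]
  refine ⟨v + c • (T.N ^ m) w, ⟨hk, hv', hw, by rw [htopv]; exact he, ?_, hww⟩, ?_, ?_, ?_, hpair⟩
  · rw [htopv, map_add, hvv, zero_add, map_smul, T.B_N_N_top hv (show k ≤ k - 1 + m + 1 by omega),
      if_neg (by omega), smul_zero]
  · have h0 : T.famW k v w (Sum.inl ⟨0, by omega⟩) ∈ Submodule.span F (Set.range (T.famW k v w)) :=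
      Submodule.subset_span (Set.mem_range_self _)
    have h1 : T.famW k v w (Sum.inr ⟨m, by omega⟩) ∈ Submodule.span F (Set.range (T.famW k v w)) :=
      Submodule.subset_span (Set.mem_range_self _)
    exact Submodule.add_mem _ h0 (Submodule.smul_mem _ c h1)
  · rw [T.mu_shift_W hv c (by omega), hq (j + m) (by omega), mul_zero, add_zero, if_pos (by omega)]
  · intro l hl
    rw [T.mu_shift_W hv c (by omega), hq (l + m) (by omega), mul_zero, add_zero, if_neg (by omega), mul_zero, add_zero]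

theorem exists_canW {k : ℕ} {v w : V} (h : T.IsW k v w) (b : Bool) (hb : b = true → ∃ q, 2 * q + 3 = k)
    (hf : b = false → ∀ q, 2 * q + 3 = k → T.mu q v = 0)
    (ht : b = true → ∀ q, 2 * q + 3 = k → T.mu q v ≠ 0 ∧ ∀ c : F, T.mu q (w + c • v) ≠ 0) :
    ∃ v' w', T.CanW k b v' w' ∧ v' ∈ Submodule.span F (Set.range (T.famW k v w)) ∧
      w' ∈ Submodule.span F (Set.range (T.famW k v w)) := by
  obtain ⟨hk, hv, hw, he, hvv, hww⟩ := id h
  set C := Submodule.span F (Set.range (T.famW k v w)) with hC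
  have hinv : T.Inv C := T.inv_famW hv hw
  have hvC : v ∈ C := Submodule.subset_span ⟨Sum.inl ⟨0, by omega⟩, rfl⟩
  have hwC : w ∈ C := Submodule.subset_span ⟨Sum.inr ⟨0, by omega⟩, rfl⟩
  suffices hs : ∀ d a : ℕ, a + d = k - 1 → ∃ x ∈ C, ∃ y ∈ C, T.IsW k x y ∧
      (∀ l, a ≤ l → T.B ((T.N ^ l) x) y = if l + 1 = k then 1 else 0) ∧
      ∀ j, a ≤ 2 * j + 2 → T.mu j x = tW1 k b j ∧ T.mu j y = tW2 k b j by
    obtain ⟨x, hx, y, hy, hW, hp, hm⟩ := hs (k - 1) 0 (by omega)
    exact ⟨x, y, ⟨hW, fun l _ => hp l (Nat.zero_le l), fun j => (hm j (Nat.zero_le _)).1,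
      fun j => (hm j (Nat.zero_le _)).2⟩, hx, hy⟩
  intro d
  induction d with
  | zero =>
    intro a ha
    obtain rfl : a = k - 1 := by omega
    have hlow : ∀ {x y : V}, T.IsW k x y → T.B ((T.N ^ (k - 1)) x) y = 1 →
        (∀ q, 2 * q + 3 = k → T.mu q x = tW1 k b q ∧ T.mu q y = tW2 k b q) →
        (∀ l, k - 1 ≤ l → T.B ((T.N ^ l) x) y = if l + 1 = k then 1 else 0) ∧
          ∀ j, k - 1 ≤ 2 * j + 2 → T.mu j x = tW1 k b j ∧ T.mu j y = tW2 k b j := by
      intro x y hxy h1 hq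
      refine ⟨fun l hl => ?_, fun j hj => ?_⟩
      · split_ifs with hlk
        · rw [show l = k - 1 by omega, h1]
        · rw [T.pow_zero_of_le hxy.2.1 (show k ≤ l by omega), map_zero, LinearMap.zero_apply]
      · rcases Nat.lt_or_ge (2 * j + 2) k with hjk | hjk
        · exact hq j (by omega)
        · rw [T.mu_top_W hxy hjk, T.mu_top_W hxy.symm hjk, tW1, tW2, if_neg (by omega), if_neg (by omega)]
          exact ⟨rfl, rfl⟩
    set e := T.B ((T.N ^ (k - 1)) v) w with hedef
    by_cases hq : ∃ q, 2 * q + 3 = k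
    · obtain ⟨q, hq⟩ := hq
      have hpolar : ∀ {x y : V}, (T.N ^ k) x = 0 →
          T.B ((T.S ^ (q + 1)) x) y = T.B ((T.N ^ (k - 1)) x) y := by
        intro x y hx
        have := T.B_S_N (p := q + 1) (m := 0) (y := y) hx (by omega)
        rw [if_pos (by omega)] at this
        simpa using this
      have hlin : ∀ {x y : V}, T.IsW k x y → ∀ c : F, T.IsW k x (y + c • x) ∧
          T.B ((T.N ^ (k - 1)) x) (y + c • x) = T.B ((T.N ^ (k - 1)) x) y ∧
          T.mu q (y + c • x) = T.mu q y + c ^ 2 * T.mu q x + c * T.B ((T.N ^ (k - 1)) x) y := by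
        intro x y hxy c
        obtain ⟨-, hx, hy, hxy0, hxx, hyy⟩ := id hxy
        have h1 : T.B ((T.N ^ (k - 1)) x) (y + c • x) = T.B ((T.N ^ (k - 1)) x) y := by
          rw [map_add, map_smul, hxx, smul_zero, add_zero]
        refine ⟨⟨hk, hx, by rw [map_add, map_smul, hx, hy, smul_zero, add_zero], by rw [h1]; exact hxy0, hxx, ?_⟩,
          h1, ?_⟩
        · simp only [map_add, map_smul, LinearMap.add_apply, LinearMap.smul_apply, smul_eq_mul, hxx, hyy,
            hxy.top_swap]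
          ring_nf
          rw [CharTwo.two_eq_zero]
          ring
        · rw [T.mu_add, T.mu_smul, map_smul, smul_eq_mul, hpolar hy, hxy.top_swap]
      cases b with
      | false =>
        have hw1 : T.IsW k v (e⁻¹ • w) := ⟨hk, hv, by rw [map_smul, hw, smul_zero],
          by rw [map_smul, smul_eq_mul]; exact mul_ne_zero (inv_ne_zero he) he, hvv,
          by simp [hww]⟩
        have he1 : T.B ((T.N ^ (k - 1)) v) (e⁻¹ • w) = 1 := by
          rw [map_smul, smul_eq_mul, ← hedef, inv_mul_cancel₀ he]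
        set w1 := e⁻¹ • w with hw1def
        obtain ⟨h1, h2, h3⟩ := hlin hw1 (T.mu q w1)
        obtain ⟨p1, p2⟩ := hlow h1 (by rw [h2, he1]) (fun q' hq' => by
          obtain rfl : q' = q := by omega
          rw [hf rfl q' hq', h3, hf rfl q' hq', he1, tW1, tW2]
          simp [CharTwo.add_self_eq_zero])
        exact ⟨v, hvC, w1 + T.mu q w1 • v, C.add_mem (C.smul_mem _ hwC) (C.smul_mem _ hvC), h1, p1, p2⟩
      | true =>
        obtain ⟨hne, hniso⟩ := ht rfl q hq
        obtain ⟨s, hs⟩ := exists_sqrt (T.mu q v)⁻¹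
        have hs0 : s ≠ 0 := fun h0 => inv_ne_zero hne (by rw [← hs, h0]; ring)
        set v1 := s • v with hv1def
        have hmv : T.mu q v1 = 1 := by rw [hv1def, T.mu_smul, hs, inv_mul_cancel₀ hne]
        set r := (s * e)⁻¹ with hr
        set w1 := r • w with hw1def
        have he1 : T.B ((T.N ^ (k - 1)) v1) w1 = 1 := by
          simp only [hv1def, hw1def, map_smul, LinearMap.smul_apply, smul_eq_mul, ← hedef, hr]
          field_simp
        have hw1 : T.IsW k v1 w1 := ⟨hk, by rw [hv1def, map_smul, hv, smul_zero],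
          by rw [hw1def, map_smul, hw, smul_zero], by rw [he1]; exact one_ne_zero,
          by simp [hv1def, hvv], by simp [hw1def, hww]⟩
        have hno : ∀ c : F, c ^ 2 + c ≠ T.mu q w1 := by
          intro c hc
          obtain ⟨-, -, h3⟩ := hlin hw1 c
          rw [hmv, he1, mul_one, mul_one, add_assoc, hc, CharTwo.add_self_eq_zero] at h3
          have hr0 : r ≠ 0 := inv_ne_zero (mul_ne_zero hs0 he)
          refine hniso (r⁻¹ * (c * s)) ?_
          have e2 : w + (r⁻¹ * (c * s)) • v = r⁻¹ • (w1 + c • v1) := by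
            rw [hw1def, hv1def, smul_add, smul_smul, smul_smul, smul_smul, inv_mul_cancel₀ hr0, one_smul, mul_assoc]
          rw [e2, T.mu_smul, h3, mul_zero]
        obtain ⟨c, hc⟩ := artin_schreier _ hno
        obtain ⟨h1, h2, h3⟩ := hlin hw1 c
        obtain ⟨p1, p2⟩ := hlow h1 (by rw [h2, he1]) (fun q' hq' => by
          obtain rfl : q' = q := by omega
          rw [hmv, h3, hmv, he1, mul_one, mul_one, add_assoc, hc, ← add_assoc, CharTwo.add_self_eq_zero, zero_add,
            tW1, tW2, if_pos ⟨hq, rfl⟩, if_pos ⟨hq, rfl⟩]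
          exact ⟨rfl, rfl⟩)
        exact ⟨v1, C.smul_mem _ hvC, w1 + c • v1, C.add_mem (C.smul_mem _ hwC) (C.smul_mem _ (C.smul_mem _ hvC)),
          h1, p1, p2⟩
    · have hb' : b = false := by
        cases b with
        | false => rfl
        | true => exact absurd (hb rfl) hq
      have hw1 : T.IsW k v (e⁻¹ • w) := ⟨hk, hv, by rw [map_smul, hw, smul_zero],
        by rw [map_smul, smul_eq_mul]; exact mul_ne_zero (inv_ne_zero he) he, hvv, by simp [hww]⟩
      obtain ⟨p1, p2⟩ := hlow hw1 (by rw [map_smul, smul_eq_mul, ← hedef, inv_mul_cancel₀ he])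
        fun q' hq' => absurd ⟨q', hq'⟩ hq
      exact ⟨v, hvC, _, C.smul_mem _ hwC, hw1, p1, p2⟩
  | succ d ih =>
    intro a ha
    obtain ⟨x, hx, y, hy, hxy, hp, hmu⟩ := ih (a + 1) (by omega)
    obtain ⟨-, hxk, hyk, -, hxx, hyy⟩ := id hxy
    have h1 : T.B ((T.N ^ (k - 1)) x) y = 1 := by rw [hp (k - 1) (by omega), if_pos (by omega)]
    have hmy : ∀ l, k + 1 ≤ 2 * l + 2 → T.mu l y = 0 := fun l hl => T.mu_hi hyk (by omega)
    set m := k - 1 - a with hm
    set c := T.B ((T.N ^ a) x) y with hc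
    set y' := y + c • (T.N ^ m) y with hy'
    have hp' : ∀ l, a ≤ l → T.B ((T.N ^ l) x) y' = if l + 1 = k then 1 else 0 := by
      intro l hl
      rw [hy', map_add, map_smul, smul_eq_mul, T.B_N_N_top hxk (show k ≤ l + m + 1 by omega), h1]
      rcases Nat.eq_or_lt_of_le hl with rfl | hl'
      · rw [if_pos (by omega), mul_one, ← hc, CharTwo.add_self_eq_zero, if_neg (by omega)]
      · rw [hp l hl', if_neg (show ¬ l + m + 1 = k by omega), mul_zero, add_zero]
    have htop' : (T.N ^ (k - 1)) y' = (T.N ^ (k - 1)) y := by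
      rw [hy', map_add, map_smul, T.N_pow_apply, T.pow_zero_of_le hyk (show k ≤ k - 1 + m by omega), smul_zero,
        add_zero]
    have hy'k : (T.N ^ k) y' = 0 := by
      rw [hy', map_add, map_smul, hyk, T.N_pow_apply, T.pow_zero_of_le hyk (Nat.le_add_right k m), smul_zero,
        add_zero]
    have hW' : T.IsW k x y' := by
      refine ⟨hk, hxk, hy'k, by rw [hp' (k - 1) (by omega), if_pos (by omega)]; exact one_ne_zero, hxx, ?_⟩
      rw [htop', hy', map_add, hyy, zero_add, map_smul, T.B_N_N_top hyk (show k ≤ k - 1 + m + 1 by omega),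
        if_neg (by omega), smul_zero]
    have hmy' : ∀ j, a + 1 ≤ 2 * j + 2 → T.mu j y' = tW2 k b j := by
      intro j hj
      have hcross : T.B ((T.S ^ (j + 1)) y) ((T.N ^ m) y) = 0 := by
        rw [T.cross_N]
        refine T.self_zero' (r := (k - 1) / 2) (fun l hl => ?_) (by omega)
        rw [T.mu_top_W hxy.symm (by omega)]
      have hz : T.mu j ((T.N ^ m) y) = T.mu (j + m) y := T.mu_N_pow m j y
      rw [hy', T.mu_add, T.mu_smul, map_smul, smul_eq_mul, hcross, hz, T.mu_hi hyk (show k ≤ 2 * (j + m) + 1 by omega),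
        mul_zero, mul_zero, add_zero, add_zero, (hmu j hj).2]
    have hyC : y' ∈ C := C.add_mem hy (C.smul_mem _ (hinv.pow m y hy))
    by_cases hev : ∃ j, a = 2 * j + 2
    · obtain ⟨j, haj⟩ := hev
      obtain ⟨x', hxW, hxm, hxj, hxl, hxp⟩ := T.fix_mu hW' haj (by omega) (T.mu j x + tW1 k b j)
        (fun l hl => T.mu_top_W hW'.symm (by omega))
      have e1 : T.mu j x' = tW1 k b j := by
        rw [hxj, hp' (k - 1) (by omega), if_pos (by omega), mul_one, ← add_assoc, CharTwo.add_self_eq_zero, zero_add]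
      have hx'C : x' ∈ C := T.famW_le hinv hx hyC hxm
      obtain ⟨y'', hyW, hym, hyj, hyl, hyp⟩ := T.fix_mu hxW.symm haj (by omega) (T.mu j y' + tW2 k b j)
        (fun l hl => T.mu_top_W hxW (by omega))
      have htp : T.B ((T.N ^ (k - 1)) y') x' = 1 := by
        rw [hxW.top_swap, (hxp (k - 1) (by omega)).1, hp' (k - 1) (by omega), if_pos (by omega)]
      refine ⟨x', hx'C, y'', T.famW_le hinv hyC hx'C hym, hyW.symm, fun l hl => ?_, fun j' hj' => ?_⟩
      · rw [(hyp l hl).2, (hxp l hl).1, hp' l hl]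
      · rcases Nat.eq_or_lt_of_le (show j ≤ j' by omega) with rfl | hlt
        · refine ⟨e1, ?_⟩
          rw [hyj, htp, mul_one, ← add_assoc, CharTwo.add_self_eq_zero, zero_add]
        · exact ⟨by rw [hxl j' hlt]; exact (hmu j' (by omega)).1, by rw [hyl j' hlt]; exact hmy' j' (by omega)⟩
    · have hne : ∀ j, a ≠ 2 * j + 2 := fun j h => hev ⟨j, h⟩
      exact ⟨x, hx, y', hyC, hW', hp', fun j hj => ⟨(hmu j (by have := hne j; omega)).1,
        hmy' j (by have := hne j; omega)⟩⟩

end Sys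

end Cfsg.Agent.Small.SpEven
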