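import Mathlib
import Cfsg.Agent.Lib.Small.ClassNumberSp2.Canon

/-!
Decompositions into standard summands and the isometries they give.
-/

set_option autoImplicit false
set_option linter.unusedSectionVars false
set_option linter.style.haveILetI false

namespace Cfsg.Agent.Small.SpEven

universe u v w

/-- a summand with its parameter -/
abbrev Tag := Kind × Bool

/-- the admissible tags -/
def Wf : Tag → Prop
  | (.V i, b) => 1 ≤ i ∧ (b = true → 2 ≤ i)
  | (.W k, b) => 1 ≤ k ∧ (b = true → ∃ q, 2 * q + 3 = k)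

/-- half the dimension of a summand -/
def Kind.wt : Kind → ℕ
  | .V i => i
  | .W k => k

/-- half the dimension of a decomposition -/
def weight (L : Multiset Tag) : ℕ := (L.map fun t => t.1.wt).sum

variable {F : Type u} [Field F] [Fintype F] [CharP F 2]
variable {V : Type v} [AddCommGroup V] [Module F V]

namespace Sys

variable (T : Sys F V)

/-- a standard summand -/
def Piece : Tag → Submodule F V → Prop
  | (.V i, b), C => Wf (.V i, b) ∧ ∃ x, T.CanV i b x ∧ C = Submodule.span F (Set.range (T.famV (2 * i) x))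
  | (.W k, b), C => Wf (.W k, b) ∧
      ∃ x y, T.CanW k b x y ∧ C = Submodule.span F (Set.range (T.famW k x y))

/-- orthogonality of subspaces -/
def Orth (C W : Submodule F V) : Prop := ∀ x ∈ C, ∀ y ∈ W, T.B x y = 0

theorem Orth.symm {T : Sys F V} {C W : Submodule F V} (h : T.Orth C W) : T.Orth W C :=
  fun x hx y hy => by rw [T.B_symm]; exact h y hy x hx

theorem Orth.mono {T : Sys F V} {C W C' W' : Submodule F V} (h : T.Orth C W) (hC : C' ≤ C) (hW : W' ≤ W) :
    T.Orth C' W' :=
  fun x hx y hy => h x (hC hx) y (hW hy)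

theorem Orth.sup_left {T : Sys F V} {C C' W : Submodule F V} (h : T.Orth C W) (h' : T.Orth C' W) :
    T.Orth (C ⊔ C') W := by
  intro x hx y hy
  obtain ⟨a, ha, b, hb, rfl⟩ := Submodule.mem_sup.1 hx
  rw [map_add, LinearMap.add_apply, h a ha y hy, h' b hb y hy, add_zero]

theorem Orth.sup_right {T : Sys F V} {C C' W : Submodule F V} (h : T.Orth W C) (h' : T.Orth W C') :
    T.Orth W (C ⊔ C') := (h.symm.sup_left h'.symm).symm

theorem ND.inf_eq_bot {T : Sys F V} {C W : Submodule F V} (h : T.ND C) (ho : T.Orth C W) : C ⊓ W = ⊥ :=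
  (Submodule.eq_bot_iff _).2 fun x hx => h x hx.1 fun y hy => by rw [T.B_symm]; exact ho y hy x hx.2

theorem ND.sup {T : Sys F V} {C W : Submodule F V} (h : T.ND C) (h' : T.ND W) (ho : T.Orth C W) :
    T.ND (C ⊔ W) := by
  intro x hx hall
  obtain ⟨a, ha, b, hb, rfl⟩ := Submodule.mem_sup.1 hx
  have h1 : a = 0 := h a ha fun y hy => by
    have := hall y (Submodule.mem_sup_left hy)
    rwa [map_add, LinearMap.add_apply, ho.symm b hb y hy, add_zero] at this
  subst h1
  rw [zero_add]
  exact h' b hb fun y hy => by simpa using hall y (Submodule.mem_sup_right hy)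

theorem Inv.Ui_mem' [FiniteDimensional F V] {T : Sys F V} {W : Submodule F V} (h : T.Inv W) {x : V} (hx : x ∈ W) :
    T.Ui x ∈ W := by
  have hU : ∀ y ∈ W, T.U y ∈ W := fun y hy => by
    have e : T.U y = T.N y + y := by
      rw [N, LinearMap.add_apply, Module.End.one_apply, add_assoc, add_self_eq (F := F), add_zero]
    rw [e]; exact W.add_mem (h y hy) hy
  have hinj : Function.Injective (T.U.restrict hU) := fun a b hab =>
    Subtype.ext (T.g.injective (congrArg Subtype.val hab))
  obtain ⟨y, hy⟩ := LinearMap.injective_iff_surjective.1 hinj ⟨x, hx⟩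
  have e : T.U y.1 = x := congrArg Subtype.val hy
  rw [← e, ← Module.End.mul_apply, T.Ui_mul_U, Module.End.one_apply]
  exact y.2

theorem Inv.M_mem [FiniteDimensional F V] {T : Sys F V} {W : Submodule F V} (h : T.Inv W) {x : V} (hx : x ∈ W) :
    T.M x ∈ W := by
  rw [T.M_eq, Module.End.mul_apply]; exact h.Ui_mem' (h x hx)

/-- the orthogonal complement inside a subspace -/
def compl (W C : Submodule F V) : Submodule F V := W ⊓ ⨅ c : C, LinearMap.ker (T.B c.1)

theorem mem_compl {W C : Submodule F V} {x : V} : x ∈ T.compl W C ↔ x ∈ W ∧ ∀ c ∈ C, T.B c x = 0 := by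
  simp [compl, Submodule.mem_inf, Submodule.mem_iInf]

theorem compl_spec [FiniteDimensional F V] {W C : Submodule F V} (hW : T.ND W) (hiW : T.Inv W) (hC : T.ND C)
    (hiC : T.Inv C) (hCW : C ≤ W) :
    T.Orth C (T.compl W C) ∧ C ⊔ T.compl W C = W ∧ T.ND (T.compl W C) ∧ T.Inv (T.compl W C) := by
  have ho : T.Orth C (T.compl W C) := fun c hc y hy => (T.mem_compl.1 hy).2 c hc
  have hsup : C ⊔ T.compl W C = W := by
    refine le_antisymm (sup_le hCW fun y hy => (T.mem_compl.1 hy).1) fun x hx => ?_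
    let L : C →ₗ[F] Module.Dual F C := (C.subtype.dualMap.comp T.B).comp C.subtype
    have hL : Function.Injective L := (injective_iff_map_eq_zero L).2 fun c hc =>
      Subtype.ext (hC c.1 c.2 fun y hy => LinearMap.congr_fun hc ⟨y, hy⟩)
    obtain ⟨c, hc⟩ := (LinearMap.injective_iff_surjective_of_finrank_eq_finrank
      (Subspace.dual_finrank_eq).symm).1 hL (C.subtype.dualMap (T.B x))
    refine Submodule.mem_sup.2 ⟨c.1, c.2, x + c.1, T.mem_compl.2 ⟨W.add_mem hx (hCW c.2), fun y hy => ?_⟩, ?_⟩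
    · have : T.B c.1 y = T.B x y := LinearMap.congr_fun hc ⟨y, hy⟩
      rw [T.B_symm, map_add, LinearMap.add_apply, this, CharTwo.add_self_eq_zero]
    · rw [add_comm x, ← add_assoc, add_self_eq (F := F), zero_add]
  refine ⟨ho, hsup, fun x hx hall => hW x (T.mem_compl.1 hx).1 fun y hy => ?_, fun x hx => ?_⟩
  · rw [← hsup] at hy
    obtain ⟨c, hc, z, hz, rfl⟩ := Submodule.mem_sup.1 hy
    rw [map_add, ho.symm x hx c hc, hall z hz, add_zero]
  · refine T.mem_compl.2 ⟨hiW x (T.mem_compl.1 hx).1, fun c hc => ?_⟩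
    rw [← T.M_adj]
    exact (T.mem_compl.1 hx).2 _ (hiC.M_mem hc)

theorem exists_piece_V [FiniteDimensional F V] {i : ℕ} {v : V} (h : T.IsV i v) :
    ∃ b, (2 ≤ i → (∃ c : F, c ^ 2 + c = T.mu (i - 2) v / T.mu (i - 1) v) → b = false) ∧
      T.Piece (.V i, b) (Submodule.span F (Set.range (T.famV (2 * i) v))) := by
  by_cases hs : 2 ≤ i ∧ ∀ c : F, c ^ 2 + c ≠ T.mu (i - 2) v / T.mu (i - 1) v
  · obtain ⟨x, hx, hxm⟩ := T.exists_canV h true (fun _ => hs.1) (fun _ => by
      rw [if_pos rfl]; exact artin_schreier _ hs.2)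
    exact ⟨true, fun _ ⟨c, hc⟩ => absurd hc (hs.2 c), ⟨h.1, fun _ => hs.1⟩, x, hx, (h.span_eq hx.1 hxm).symm⟩
  · obtain ⟨x, hx, hxm⟩ := T.exists_canV h false (fun h' => absurd h' (by simp)) (fun hi => by
      obtain ⟨c, hc⟩ : ∃ c : F, c ^ 2 + c = T.mu (i - 2) v / T.mu (i - 1) v := by
        by_contra hno
        exact hs ⟨hi, fun c hc => hno ⟨c, hc⟩⟩
      exact ⟨c, by simp [hc]⟩)
    exact ⟨false, fun _ _ => rfl, ⟨h.1, fun h' => absurd h' (by simp)⟩, x, hx, (h.span_eq hx.1 hxm).symm⟩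

theorem exists_piece_W [FiniteDimensional F V] {k : ℕ} {v w : V} (h : T.IsW k v w) :
    ∃ b, ((∀ q, 2 * q + 3 = k → T.mu q v = 0) → b = false) ∧
      T.Piece (.W k, b) (Submodule.span F (Set.range (T.famW k v w))) := by
  by_cases hs : ∃ q, 2 * q + 3 = k ∧ T.mu q v ≠ 0
  · obtain ⟨q, hq, hne⟩ := hs
    by_cases hc : ∃ c : F, T.mu q (w + c • v) = 0
    · obtain ⟨c, hc⟩ := hc
      obtain ⟨hk, hv, hw, he, hvv, hww⟩ := id h
      have h2 : T.IsW k (w + c • v) v := by
        have e1 : T.B ((T.N ^ (k - 1)) (w + c • v)) v = T.B ((T.N ^ (k - 1)) v) w := by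
          simp only [map_add, map_smul, LinearMap.add_apply, LinearMap.smul_apply, smul_eq_mul, hvv, h.top_swap,
            mul_zero, add_zero]
        refine ⟨hk, by rw [map_add, map_smul, hv, hw, smul_zero, add_zero], hv, by rw [e1]; exact he, ?_, hvv⟩
        simp only [map_add, map_smul, LinearMap.add_apply, LinearMap.smul_apply, smul_eq_mul, hvv, hww, h.top_swap,
          mul_zero, add_zero, zero_add, CharTwo.add_self_eq_zero]
      obtain ⟨x, y, hxy, hx, hy⟩ := T.exists_canW h2 false (fun h' => absurd h' (by simp))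
        (fun _ q' hq' => by obtain rfl : q' = q := by omega
                            exact hc) (fun h' => absurd h' (by simp))
      have hle : Submodule.span F (Set.range (T.famW k (w + c • v) v)) ≤
          Submodule.span F (Set.range (T.famW k v w)) := by
        have hvm : v ∈ Submodule.span F (Set.range (T.famW k v w)) :=
          Submodule.subset_span ⟨Sum.inl ⟨0, by omega⟩, rfl⟩
        have hwm : w ∈ Submodule.span F (Set.range (T.famW k v w)) :=
          Submodule.subset_span ⟨Sum.inr ⟨0, by omega⟩, rfl⟩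
        exact T.famW_le (T.inv_famW hv hw) (Submodule.add_mem _ hwm (Submodule.smul_mem _ c hvm)) hvm
      exact ⟨false, fun _ => rfl, ⟨hk, fun h' => absurd h' (by simp)⟩, x, y, hxy,
        (h.span_eq hxy.1 (hle hx) (hle hy)).symm⟩
    · obtain ⟨x, y, hxy, hx, hy⟩ := T.exists_canW h true (fun _ => ⟨q, hq⟩) (fun h' => absurd h' (by simp))
        (fun _ q' hq' => by obtain rfl : q' = q := by omega
                            exact ⟨hne, fun c h0 => hc ⟨c, h0⟩⟩)
      exact ⟨true, fun h0 => absurd (h0 q hq) hne, ⟨h.1, fun _ => ⟨q, hq⟩⟩, x, y, hxy,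
        (h.span_eq hxy.1 hx hy).symm⟩
  · obtain ⟨x, y, hxy, hx, hy⟩ := T.exists_canW h false (fun h' => absurd h' (by simp))
      (fun _ q hq => by_contra fun hne => hs ⟨q, hq, hne⟩) (fun h' => absurd h' (by simp))
    exact ⟨false, fun _ => rfl, ⟨h.1, fun h' => absurd h' (by simp)⟩, x, y, hxy, (h.span_eq hxy.1 hx hy).symm⟩

theorem Piece.wf {T : Sys F V} {t : Tag} {C : Submodule F V} (h : T.Piece t C) : Wf t := by
  obtain ⟨k | k, b⟩ := t <;> exact h.1

theorem Piece.nd {T : Sys F V} {t : Tag} {C : Submodule F V} (h : T.Piece t C) : T.ND C := by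
  obtain ⟨k | k, b⟩ := t
  · obtain ⟨-, x, hx, rfl⟩ := h; exact hx.1.nd
  · obtain ⟨-, x, y, hx, rfl⟩ := h; exact hx.1.nd

theorem Piece.inv {T : Sys F V} {t : Tag} {C : Submodule F V} (h : T.Piece t C) : T.Inv C := by
  obtain ⟨k | k, b⟩ := t
  · obtain ⟨-, x, hx, rfl⟩ := h; exact T.inv_famV hx.1.2.1
  · obtain ⟨-, x, y, hx, rfl⟩ := h; exact T.inv_famW hx.1.2.1 hx.1.2.2.1

theorem Piece.finrank [FiniteDimensional F V] {T : Sys F V} {t : Tag} {C : Submodule F V} (h : T.Piece t C) :
    Module.finrank F C = 2 * t.1.wt := by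
  obtain ⟨k | k, b⟩ := t
  · obtain ⟨-, x, hx, rfl⟩ := h
    rw [finrank_span_eq_card hx.1.linearIndependent, Fintype.card_fin, Kind.wt]
  · obtain ⟨-, x, y, hx, rfl⟩ := h
    rw [finrank_span_eq_card hx.1.linearIndependent, Fintype.card_sum, Fintype.card_fin, Kind.wt, two_mul]

/-- orthogonal decompositions into standard summands -/
inductive Dec : Submodule F V → Multiset Tag → Prop
  | nil : Dec ⊥ 0
  | cons {C W : Submodule F V} {t : Tag} {L : Multiset Tag} :
      T.Piece t C → Dec W L → T.Orth C W → Dec (C ⊔ W) (t ::ₘ L)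

theorem Dec.nd {T : Sys F V} {W : Submodule F V} {L : Multiset Tag} (h : T.Dec W L) : T.ND W := by
  induction h with
  | nil => exact fun x hx _ => (Submodule.mem_bot F).1 hx
  | cons hp _ ho ih => exact hp.nd.sup ih ho

theorem Dec.inv {T : Sys F V} {W : Submodule F V} {L : Multiset Tag} (h : T.Dec W L) : T.Inv W := by
  induction h with
  | nil => intro x hx; rw [(Submodule.mem_bot F).1 hx, map_zero]; exact zero_mem _
  | cons hp _ _ ih => exact hp.inv.sup ih

theorem Dec.wf {T : Sys F V} {W : Submodule F V} {L : Multiset Tag} (h : T.Dec W L) : ∀ t ∈ L, Wf t := by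
  induction h with
  | nil => simp
  | cons hp _ _ ih =>
    intro s hs
    rcases Multiset.mem_cons.1 hs with rfl | hs
    · exact hp.wf
    · exact ih s hs

theorem Dec.finrank [FiniteDimensional F V] {T : Sys F V} {W : Submodule F V} {L : Multiset Tag}
    (h : T.Dec W L) : Module.finrank F W = 2 * weight L := by
  induction h with
  | nil => simp [weight]
  | @cons C W t L hp hd ho ih =>
    have h1 := Submodule.finrank_sup_add_finrank_inf_eq C W
    rw [hp.nd.inf_eq_bot ho, finrank_bot, add_zero, hp.finrank, ih] at h1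
    rw [h1, weight, weight, Multiset.map_cons, Multiset.sum_cons, Nat.mul_add]

theorem Dec.eq_bot {T : Sys F V} {W : Submodule F V} {L : Multiset Tag} (h : T.Dec W L) :
    L = 0 → W = ⊥ := by
  induction h with
  | nil => exact fun _ => rfl
  | cons _ _ _ _ => exact fun h0 => absurd h0 (Multiset.cons_ne_zero)

theorem Dec.single {T : Sys F V} {t : Tag} {C : Submodule F V} (h : T.Piece t C) : T.Dec C {t} := by
  have := Dec.cons h (Dec.nil (T := T)) (fun x _ y hy => by rw [(Submodule.mem_bot F).1 hy, map_zero])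
  rwa [sup_bot_eq] at this

theorem Dec.add {T : Sys F V} {W W' : Submodule F V} {L L' : Multiset Tag} (h : T.Dec W L) (h' : T.Dec W' L')
    (ho : T.Orth W W') : T.Dec (W ⊔ W') (L + L') := by
  induction h with
  | nil => rwa [bot_sup_eq, zero_add]
  | cons hp hd ho' ih =>
    rw [sup_assoc, Multiset.cons_add]
    exact Dec.cons hp (ih (ho.mono le_sup_right le_rfl)) (ho'.sup_right (ho.mono le_sup_left le_rfl))

theorem Dec.extract {T : Sys F V} {W : Submodule F V} {L : Multiset Tag} (h : T.Dec W L) :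
    ∀ t ∈ L, ∃ C W', T.Piece t C ∧ T.Dec W' (L.erase t) ∧ T.Orth C W' ∧ C ⊔ W' = W := by
  induction h with
  | nil => simp
  | @cons C W s L hp hd ho ih =>
    intro t ht
    by_cases hts : t = s
    · subst hts
      exact ⟨C, W, hp, by rwa [Multiset.erase_cons_head], ho, rfl⟩
    · obtain ⟨D, W', hD, hW', ho', rfl⟩ := ih t ((Multiset.mem_cons.1 ht).resolve_left hts)
      refine ⟨D, C ⊔ W', hD, ?_, (ho.mono le_rfl le_sup_left).symm.sup_right ho', by rw [sup_left_comm]⟩
      rw [Multiset.erase_cons_tail L (Ne.symm hts)]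
      exact Dec.cons hp hW' (ho.mono le_rfl le_sup_right)

theorem exists_dec [FiniteDimensional F V] : ∀ (W : Submodule F V), T.ND W → T.Inv W →
    (∀ x ∈ W, ∃ k, (T.N ^ k) x = 0) → ∃ L, T.Dec W L := by
  intro W
  induction hd : Module.finrank F W using Nat.strong_induction_on generalizing W with
  | _ d ih =>
    intro hW hiW hnil
    by_cases hbot : W = ⊥
    · exact ⟨0, hbot ▸ Dec.nil⟩
    haveI : Finite V := Module.finite_of_finite F
    choose f hf using fun x : W => hnil x.1 x.2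
    obtain ⟨K, hK⟩ : ∃ K, ∀ x : W, f x ≤ K := Finite.exists_le f
    have hex : ∃ k, ∀ x ∈ W, (T.N ^ k) x = 0 :=
      ⟨K, fun x hx => T.pow_zero_of_le (hf ⟨x, hx⟩) (hK _)⟩
    classical
    set k := Nat.find hex with hkdef
    have hk : ∀ x ∈ W, (T.N ^ k) x = 0 := Nat.find_spec hex
    obtain ⟨v0, hv0, hv0ne⟩ := Submodule.exists_mem_ne_zero_of_ne_bot hbot
    have hk1 : 1 ≤ k := by
      rcases Nat.eq_zero_or_pos k with h0 | h0
      · exact absurd (by simpa [h0] using hk v0 hv0) hv0ne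
      · exact h0
    obtain ⟨v, hv, hvne⟩ : ∃ v ∈ W, (T.N ^ (k - 1)) v ≠ 0 := by
      have := Nat.find_min hex (show k - 1 < k by omega)
      push Not at this
      exact this
    have hstep : ∀ (t : Tag) (C : Submodule F V), T.Piece t C → C ≤ W → ∃ L, T.Dec W L := by
      intro t C hp hCW
      obtain ⟨ho, hsup, hnd, hinv⟩ := T.compl_spec hW hiW hp.nd hp.inv hCW
      have hlt : Module.finrank F (T.compl W C) < d := by
        have h1 := Submodule.finrank_sup_add_finrank_inf_eq C (T.compl W C)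
        rw [hp.nd.inf_eq_bot ho, finrank_bot, add_zero, hsup, hd, hp.finrank] at h1
        have : 1 ≤ t.1.wt := by
          have := hp.wf
          obtain ⟨i | i, b⟩ := t <;> exact this.1
        omega
      obtain ⟨L, hL⟩ := ih _ hlt _ rfl hnd hinv fun x hx => hnil x (T.mem_compl.1 hx).1
      exact ⟨t ::ₘ L, hsup ▸ Dec.cons hp hL ho⟩
    by_cases htop : ∃ x ∈ W, T.B ((T.N ^ (k - 1)) x) x ≠ 0
    · obtain ⟨x, hx, hxne⟩ := htop
      obtain ⟨i, hi⟩ : ∃ i, k = 2 * i := by
        rcases Nat.even_or_odd k with ⟨i, hi⟩ | ⟨q, hq⟩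
        · exact ⟨i, by omega⟩
        · refine absurd ?_ hxne
          have h := T.S_pow_N_top (j := q) (e := 0) (hk x hx) (by omega)
          rw [pow_zero, Module.End.one_apply] at h
          rw [show k - 1 = 2 * q + 0 by omega, ← h]
          exact T.S_pow_self q x
      have hxk : (T.N ^ (2 * i)) x = 0 := hi ▸ hk x hx
      have hV : T.IsV i x := ⟨by omega, hxk, by rw [← T.top_mu (by omega) hxk, ← hi]; exact hxne⟩
      obtain ⟨b, -, hp⟩ := T.exists_piece_V hV
      exact hstep _ _ hp (T.famV_le hiW hx)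
    · push Not at htop
      obtain ⟨w, hw, hwne⟩ : ∃ w ∈ W, T.B ((T.N ^ (k - 1)) v) w ≠ 0 := by
        by_contra hall
        push Not at hall
        exact hvne (hW _ (hiW.pow _ v hv) hall)
      obtain ⟨b, -, hp⟩ := T.exists_piece_W (⟨hk1, hk v hv, hk w hw, hwne, htop v hv, htop w hw⟩ : T.IsW k v w)
      exact hstep _ _ hp (T.famW_le hiW hv hw)

end Sys

section iso

variable {V' : Type w} [AddCommGroup V'] [Module F V'] (T : Sys F V) (T' : Sys F V')

/-- subspaces with the same Gram data -/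
def GramEq (W : Submodule F V) (W' : Submodule F V') : Prop :=
  ∃ (ι : Type) (x : ι → V) (x' : ι → V'), Submodule.span F (Set.range x) = W ∧
    Submodule.span F (Set.range x') = W' ∧
    (∀ a b, T.B (x a) (x b) = T'.B (x' a) (x' b)) ∧ ∀ a b, T.B (T.N (x a)) (x b) = T'.B (T'.N (x' a)) (x' b)

variable {T T'}

theorem GramEq.sup {W₁ W₂ : Submodule F V} {W₁' W₂' : Submodule F V'} (h₁ : GramEq T T' W₁ W₁')
    (h₂ : GramEq T T' W₂ W₂') (ho : T.Orth W₁ W₂) (ho' : T'.Orth W₁' W₂') (hi : T.Inv W₁) (hi' : T'.Inv W₁')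
    (hj : T.Inv W₂) (hj' : T'.Inv W₂') : GramEq T T' (W₁ ⊔ W₂) (W₁' ⊔ W₂') := by
  obtain ⟨ι, x, x', rfl, rfl, hB, hN⟩ := h₁
  obtain ⟨κ, y, y', rfl, rfl, hB2, hN2⟩ := h₂
  have hm : ∀ a, x a ∈ Submodule.span F (Set.range x) := fun a => Submodule.subset_span ⟨a, rfl⟩
  have hm' : ∀ a, x' a ∈ Submodule.span F (Set.range x') := fun a => Submodule.subset_span ⟨a, rfl⟩
  have hn : ∀ a, y a ∈ Submodule.span F (Set.range y) := fun a => Submodule.subset_span ⟨a, rfl⟩
  have hn' : ∀ a, y' a ∈ Submodule.span F (Set.range y') := fun a => Submodule.subset_span ⟨a, rfl⟩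
  refine ⟨ι ⊕ κ, Sum.elim x y, Sum.elim x' y', ?_, ?_, ?_, ?_⟩
  · rw [Set.Sum.elim_range, Submodule.span_union]
  · rw [Set.Sum.elim_range, Submodule.span_union]
  · rintro (a | a) (b | b) <;> simp only [Sum.elim_inl, Sum.elim_inr]
    · exact hB a b
    · rw [ho _ (hm a) _ (hn b), ho' _ (hm' a) _ (hn' b)]
    · rw [ho.symm _ (hn a) _ (hm b), ho'.symm _ (hn' a) _ (hm' b)]
    · exact hB2 a b
  · rintro (a | a) (b | b) <;> simp only [Sum.elim_inl, Sum.elim_inr]
    · exact hN a b
    · rw [ho _ (hi _ (hm a)) _ (hn b), ho' _ (hi' _ (hm' a)) _ (hn' b)]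
    · rw [ho.symm _ (hj _ (hn a)) _ (hm b), ho'.symm _ (hj' _ (hn' a)) _ (hm' b)]
    · exact hN2 a b

theorem GramEq.bot : GramEq T T' ⊥ ⊥ :=
  ⟨Empty, Empty.elim, Empty.elim, by simp, by simp, fun a => a.elim, fun a => a.elim⟩

theorem gramEq_of_piece {t : Tag} {C : Submodule F V} {C' : Submodule F V'} (h : T.Piece t C)
    (h' : T'.Piece t C') : GramEq T T' C C' := by
  obtain ⟨k | k, b⟩ := t
  · obtain ⟨-, x, hx, rfl⟩ := h
    obtain ⟨-, x', hx', rfl⟩ := h'
    have hp := pair_eq (T := T) (T' := T') (y := x) (y' := x') hx.1.2.1 hx'.1.2.1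
      fun l _ => self_eq (fun j => (hx.2 j).trans (hx'.2 j).symm) l
    refine ⟨Fin (2 * k), T.famV (2 * k) x, T'.famV (2 * k) x', rfl, rfl, fun a c => hp c a, fun a c => ?_⟩
    simp only [Sys.famV, ← Module.End.mul_apply, ← pow_succ']
    exact hp c (a + 1)
  · obtain ⟨-, x, y, hx, rfl⟩ := h
    obtain ⟨-, x', y', hx', rfl⟩ := h'
    have hxy : ∀ l < k, T.B ((T.N ^ l) x) y = T'.B ((T'.N ^ l) x') y' := fun l hl => by
      rw [hx.2.1 l hl, hx'.2.1 l hl]
    have p1 := pair_eq (T := T) (T' := T') (y := x) (y' := x') hx.1.2.1 hx'.1.2.1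
      fun l _ => self_eq (fun j => (hx.2.2.1 j).trans (hx'.2.2.1 j).symm) l
    have p2 := pair_eq (T := T) (T' := T') (y := y) (y' := y') hx.1.2.2.1 hx'.1.2.2.1
      fun l _ => self_eq (fun j => (hx.2.2.2 j).trans (hx'.2.2.2 j).symm) l
    have p3 := pair_eq (T := T) (T' := T') (y := y) (y' := y') hx.1.2.1 hx'.1.2.1 hxy
    have p4 : ∀ b a, T.B ((T.N ^ a) y) ((T.N ^ b) x) = T'.B ((T'.N ^ a) y') ((T'.N ^ b) x') := fun b a => by
      rw [T.B_symm, T'.B_symm, p3]
    refine ⟨Fin k ⊕ Fin k, T.famW k x y, T'.famW k x' y', rfl, rfl, ?_, ?_⟩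
    · rintro (a | a) (c | c) <;> simp only [Sys.famW, Sys.famV, Sum.elim_inl, Sum.elim_inr]
      exacts [p1 c a, p3 c a, p4 c a, p2 c a]
    · rintro (a | a) (c | c) <;>
        simp only [Sys.famW, Sys.famV, Sum.elim_inl, Sum.elim_inr, ← Module.End.mul_apply, ← pow_succ']
      exacts [p1 c (a + 1), p3 c (a + 1), p4 c (a + 1), p2 c (a + 1)]

theorem gramEq_of_dec {W : Submodule F V} {L : Multiset Tag} (h : T.Dec W L) :
    ∀ {W' : Submodule F V'}, T'.Dec W' L → GramEq T T' W W' := by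
  induction h with
  | nil =>
    intro W' h'
    rw [h'.eq_bot rfl]
    exact GramEq.bot
  | @cons C W t L hp hd ho ih =>
    intro W' h'
    obtain ⟨C', D', hp', hD', ho', rfl⟩ := h'.extract t (Multiset.mem_cons_self _ _)
    rw [Multiset.erase_cons_head] at hD'
    exact (gramEq_of_piece hp hp').sup (ih hD') ho ho' hp.inv hp'.inv hd.inv hD'.inv

theorem exists_equiv (h : GramEq T T' ⊤ ⊤) :
    ∃ φ : V ≃ₗ[F] V', (∀ x y, T'.B (φ x) (φ y) = T.B x y) ∧ ∀ x, φ (T.g x) = T'.g (φ x) := by
  obtain ⟨ι, x, x', hs, hs', hB, hN⟩ := h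
  set L := Finsupp.linearCombination F x with hL
  set L' := Finsupp.linearCombination F x' with hL'
  have hsur : Function.Surjective L := by
    rw [← LinearMap.range_eq_top, Finsupp.range_linearCombination, hs]
  have hsur' : Function.Surjective L' := by
    rw [← LinearMap.range_eq_top, Finsupp.range_linearCombination, hs']
  have hBL : ∀ c d, T.B (L c) (L d) = T'.B (L' c) (L' d) := by
    intro c d
    simp only [hL, hL', Finsupp.linearCombination_apply, Finsupp.sum, map_sum, map_smul, LinearMap.sum_apply,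
      LinearMap.smul_apply, hB]
  have hNL : ∀ c d, T.B (T.N (L c)) (L d) = T'.B (T'.N (L' c)) (L' d) := by
    intro c d
    simp only [hL, hL', Finsupp.linearCombination_apply, Finsupp.sum, map_sum, map_smul, LinearMap.sum_apply,
      LinearMap.smul_apply, hN]
  have hker : LinearMap.ker L = LinearMap.ker L' := by
    ext c
    simp only [LinearMap.mem_ker]
    constructor
    · intro hc
      refine T'.nondeg _ fun y => ?_
      obtain ⟨d, rfl⟩ := hsur' y
      rw [← hBL, hc, map_zero, LinearMap.zero_apply]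
    · intro hc
      refine T.nondeg _ fun y => ?_
      obtain ⟨d, rfl⟩ := hsur y
      rw [hBL, hc, map_zero, LinearMap.zero_apply]
  let φ : V ≃ₗ[F] V' := ((L.quotKerEquivOfSurjective hsur).symm.trans (Submodule.quotEquivOfEq _ _ hker)).trans
    (L'.quotKerEquivOfSurjective hsur')
  have hφ : ∀ c, φ (L c) = L' c := fun c => by
    have h1 : (L.quotKerEquivOfSurjective hsur).symm (L c) = Submodule.Quotient.mk c := by
      rw [LinearEquiv.symm_apply_eq]; rfl
    show (L'.quotKerEquivOfSurjective hsur') (Submodule.quotEquivOfEq _ _ hker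
      ((L.quotKerEquivOfSurjective hsur).symm (L c))) = _
    rw [h1]
    rfl
  have hiso : ∀ a b, T'.B (φ a) (φ b) = T.B a b := by
    intro a b
    obtain ⟨c, rfl⟩ := hsur a
    obtain ⟨d, rfl⟩ := hsur b
    rw [hφ, hφ, hBL]
  refine ⟨φ, hiso, fun a => ?_⟩
  have hN' : φ (T.N a) = T'.N (φ a) := by
    rw [← sub_eq_zero]
    refine T'.nondeg _ fun y => ?_
    obtain ⟨c, rfl⟩ := hsur a
    obtain ⟨d, rfl⟩ := hsur' y
    rw [map_sub, LinearMap.sub_apply, hφ, ← hφ d, hiso, hNL, hφ, sub_self]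
  have e : T.g a = T.N a + a := by
    rw [Sys.N, LinearMap.add_apply, Module.End.one_apply, add_assoc, add_self_eq (F := F), add_zero]; rfl
  have e' : T'.g (φ a) = T'.N (φ a) + φ a := by
    rw [Sys.N, LinearMap.add_apply, Module.End.one_apply, add_assoc, add_self_eq (F := F), add_zero]; rfl
  rw [e, e', map_add, hN']

end iso

end Cfsg.Agent.Small.SpEven
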