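import Mathlib
import Cfsg.Agent.Lib.Small.ClassNumberSp2.Decomp

/-!
An isometry without fixed vectors is determined by its linear type.
-/

set_option autoImplicit false
set_option linter.unusedSectionVars false
set_option linter.style.haveILetI false

namespace Cfsg.Agent.Small.SpEven

universe u v w

variable {F : Type u} [Field F] [Fintype F] [CharP F 2]
variable {V : Type v} [AddCommGroup V] [Module F V]

namespace Sys

variable (T : Sys F V)

/-- adjoint pairs -/
def Adj (A A' : Module.End F V) : Prop := ∀ a c, T.B (A a) c = T.B a (A' c)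

theorem adj_one : T.Adj 1 1 := fun _ _ => rfl

theorem Adj.add {T : Sys F V} {A A' C C' : Module.End F V} (h : T.Adj A A') (h' : T.Adj C C') :
    T.Adj (A + C) (A' + C') := fun a c => by
  simp only [LinearMap.add_apply, map_add, h a c, h' a c]

theorem Adj.mul {T : Sys F V} {A A' C C' : Module.End F V} (h : T.Adj A A') (h' : T.Adj C C') :
    T.Adj (A * C) (C' * A') := fun a c => by
  rw [Module.End.mul_apply, Module.End.mul_apply, h, h']

theorem Adj.pow {T : Sys F V} {A A' : Module.End F V} (h : T.Adj A A') (n : ℕ) : T.Adj (A ^ n) (A' ^ n) := by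
  induction n with
  | zero => rw [pow_zero, pow_zero]; exact T.adj_one
  | succ n ih => rw [pow_succ, pow_succ']; exact ih.mul h

theorem Adj.inv {T : Sys F V} {A A' : (Module.End F V)ˣ} (h : T.Adj A A') :
    T.Adj (↑A⁻¹ : Module.End F V) (↑A'⁻¹ : Module.End F V) := fun a c => by
  have e1 : (A' : Module.End F V) ((↑A'⁻¹ : Module.End F V) c) = c := by
    rw [← Module.End.mul_apply, A'.mul_inv, Module.End.one_apply]
  have e2 : (A : Module.End F V) ((↑A⁻¹ : Module.End F V) a) = a := by
    rw [← Module.End.mul_apply, A.mul_inv, Module.End.one_apply]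
  conv_lhs => rw [← e1]
  rw [← h, e2]

theorem add_one_pow_two_pow (A : Module.End F V) : ∀ a : ℕ, (A + 1) ^ 2 ^ a = A ^ 2 ^ a + 1
  | 0 => by simp
  | a + 1 => by
    rw [pow_succ, pow_mul, pow_mul, add_one_pow_two_pow A a, pow_two, pow_two, add_mul, mul_add, mul_one, one_mul,
      add_assoc, ← add_assoc (A ^ 2 ^ a), end_add_self, zero_add]

theorem exists_norm_unipotent [Finite V] (hN : IsUnit T.N) :
    ∀ (k : ℕ) (A : Module.End F V), T.Adj A A → Commute A T.U → (A + 1) ^ k = 0 →
      ∃ y : Module.End F V, IsUnit y ∧ Commute y T.U ∧ (∀ Z, Commute Z A → Commute Z T.U → Commute Z y) ∧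
        ∀ a c, T.B (y a) (y c) = T.B (A a) c := by
  intro k
  induction k using Nat.strong_induction_on with
  | _ k ih =>
    intro A hA hAU hk
    rcases Nat.lt_or_ge k 2 with hk2 | hk2
    · have h1 : A + 1 = 0 := by
        rcases (show k = 0 ∨ k = 1 by omega) with rfl | rfl
        · rw [← mul_one (A + 1)]
          rw [pow_zero] at hk
          rw [hk, mul_zero]
        · rwa [pow_one] at hk
      have h2 : A = 1 := by
        calc A = A + 1 + 1 := by rw [add_assoc, end_add_self, add_zero]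
          _ = 1 := by rw [h1, zero_add]
      exact ⟨1, isUnit_one, Commute.one_left _, fun Z _ _ => Commute.one_right _, fun a c => by rw [h2]; rfl⟩
    obtain ⟨X, hX⟩ : ∃ X, X = A + 1 := ⟨_, rfl⟩
    rw [← hX] at hk
    obtain ⟨nu, hnu⟩ := hN
    have hMu : IsUnit T.M := by
      rw [T.M_eq]
      exact (IsUnit.mul ⟨⟨T.Ui, T.U, T.Ui_mul_U, T.U_mul_Ui⟩, rfl⟩ ⟨nu, hnu⟩)
    obtain ⟨mu, hmu⟩ := hMu
    set θ : Module.End F V := ↑nu⁻¹ with hθ
    set θ' : Module.End F V := ↑mu⁻¹ with hθ'
    have hθadj : T.Adj θ θ' := Adj.inv (show T.Adj (nu : Module.End F V) mu by rw [hnu, hmu]; exact T.N_adj)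
    have hθadj' : T.Adj θ' θ := Adj.inv (show T.Adj (mu : Module.End F V) nu by rw [hnu, hmu]; exact T.M_adj)
    have hcN : ∀ Z : Module.End F V, Commute Z T.U → Commute Z θ := fun Z hZ =>
      (show Commute Z (nu : Module.End F V) by rw [hnu]; exact hZ.add_right (Commute.one_right _)).units_inv_right
    have hUi : ∀ Z : Module.End F V, Commute Z T.U → Commute Z T.Ui := fun Z hZ =>
      (show Commute Z ((⟨T.U, T.Ui, T.U_mul_Ui, T.Ui_mul_U⟩ : (Module.End F V)ˣ) : Module.End F V) from
        hZ).units_inv_right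
    have hcM : ∀ Z : Module.End F V, Commute Z T.U → Commute Z θ' := fun Z hZ =>
      (show Commute Z (mu : Module.End F V) by
        rw [hmu]; exact (hUi Z hZ).add_right (Commute.one_right _)).units_inv_right
    have hθU : Commute θ T.U := (hcN T.U (Commute.refl _)).symm
    have hθ'U : Commute θ' T.U := (hcM T.U (Commute.refl _)).symm
    have hsum : θ + θ' = 1 := by
      have h : (θ + θ') * (T.N * T.M) = T.N * T.M := by
        rw [add_mul, ← mul_assoc θ, hθ, ← hnu, nu.inv_mul, one_mul, hnu, T.commute_N_M.eq, ← mul_assoc θ', hθ', ← hmu,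
          mu.inv_mul, one_mul, hmu, ← T.commute_N_M.eq, T.N_mul_M, T.S_eq, add_comm]
      have h2 : IsUnit (T.N * T.M) := (IsUnit.mul ⟨nu, hnu⟩ ⟨mu, hmu⟩)
      exact h2.mul_left_injective (by simpa using h)
    have hXU : Commute X T.U := hX ▸ hAU.add_left (Commute.one_left _)
    have hXA : T.Adj X X := hX ▸ hA.add T.adj_one
    have hXθ : Commute X θ := hcN X hXU
    have hXθ' : Commute X θ' := hcM X hXU
    have hθθ' : Commute θ' θ := hcN θ' hθ'U
    set y1 := 1 + X * θ with hy1
    set P := 1 + X + X * X * (θ' * θ) with hP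
    have hnorm : ∀ a c, T.B (y1 a) (y1 c) = T.B (P a) c := by
      intro a c
      have hadj : T.Adj (1 + X * θ') y1 := by
        have h := T.adj_one.add (hXA.mul hθadj')
        rwa [show θ * X = X * θ from hXθ.symm.eq] at h
      have e : (1 + X * θ') * y1 = P := by
        rw [hy1, hP, add_mul, one_mul, mul_add, mul_one, mul_assoc, ← mul_assoc θ', hXθ'.symm.eq, mul_assoc X θ',
          ← mul_assoc X X, add_assoc, ← add_assoc (X * θ), ← mul_add, hsum, mul_one, add_assoc]
      rw [← hadj, ← Module.End.mul_apply, e]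
    have hXn : IsNilpotent X := ⟨k, hk⟩
    have hy1u : IsUnit y1 := by
      rw [hy1, add_comm]; exact (hXθ.isNilpotent_mul_right hXn).isUnit_add_one
    have hPu : IsUnit P := by
      rw [hP, add_assoc, show X + X * X * (θ' * θ) = X * (1 + X * (θ' * θ)) by rw [mul_add, mul_one, mul_assoc],
        add_comm]
      exact (((Commute.one_right X).add_right ((Commute.refl X).mul_right (hXθ'.mul_right hXθ))).isNilpotent_mul_right
        hXn).isUnit_add_one
    obtain ⟨pu, hpu⟩ := hPu
    have hPcomm : ∀ Z : Module.End F V, Commute Z A → Commute Z T.U → Commute Z P := fun Z hZA hZU => by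
      have hZX : Commute Z X := hX ▸ hZA.add_right (Commute.one_right _)
      exact ((Commute.one_right _).add_right hZX).add_right
        ((hZX.mul_right hZX).mul_right ((hcM Z hZU).mul_right (hcN Z hZU)))
    set A' := A * (↑pu⁻¹ : Module.End F V) with hA'
    have hPinv : ∀ Z : Module.End F V, Commute Z A → Commute Z T.U → Commute Z A' := fun Z hZA hZU =>
      hZA.mul_right (show Commute Z (pu : Module.End F V) by rw [hpu]; exact hPcomm Z hZA hZU).units_inv_right
    have hA'adj : T.Adj A' A' := by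
      have hPadj : T.Adj P P := by
        have h := (T.adj_one.add hXA).add ((hXA.mul hXA).mul (hθadj'.mul hθadj))
        rwa [((hXθ'.symm.mul_left hXθ.symm).mul_right (hXθ'.symm.mul_left hXθ.symm)).eq] at h
      have h2 : T.Adj (↑pu⁻¹ : Module.End F V) (↑pu⁻¹ : Module.End F V) := Adj.inv (by rw [hpu]; exact hPadj)
      have h := hA.mul h2
      rwa [((show Commute A (pu : Module.End F V) by
        rw [hpu]; exact hPcomm A (Commute.refl _) hAU).units_inv_right).symm.eq] at h
    have hA'U : Commute A' T.U := (hPinv T.U hAU.symm (Commute.refl _)).symm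
    have hX' : A' + 1 = X * X * ((θ' * θ) * (↑pu⁻¹ : Module.End F V)) := by
      have h1 : A + P = X * X * (θ' * θ) := by
        rw [hP, show A + (1 + X + X * X * (θ' * θ)) = (A + 1) + X + X * X * (θ' * θ) by abel, ← hX, end_add_self,
          zero_add]
      rw [← mul_assoc, ← h1, add_mul, ← hA', ← hpu, pu.mul_inv]
    have hk' : (A' + 1) ^ (k - 1) = 0 := by
      have hc : Commute (X * X) ((θ' * θ) * (↑pu⁻¹ : Module.End F V)) := by
        have hp : Commute X (pu : Module.End F V) := by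
          rw [hpu]; exact hPcomm X (hX ▸ (Commute.refl A).add_left (Commute.one_left _)) hXU
        have : Commute X ((θ' * θ) * (↑pu⁻¹ : Module.End F V)) := (hXθ'.mul_right hXθ).mul_right hp.units_inv_right
        exact this.mul_left this
      rw [hX', hc.mul_pow, ← pow_two, ← pow_mul, pow_eq_zero_of_le (show k ≤ 2 * (k - 1) by omega) hk, zero_mul]
    obtain ⟨y', hy'u, hy'U, hy'c, hy'⟩ := ih (k - 1) (by omega) A' hA'adj hA'U hk'
    have hy1c : ∀ Z : Module.End F V, Commute Z A → Commute Z T.U → Commute Z y1 := fun Z hZA hZU =>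
      (Commute.one_right _).add_right ((show Commute Z X from hX ▸ hZA.add_right (Commute.one_right _)).mul_right (hcN Z hZU))
    have hy1U : Commute y1 T.U := (hy1c T.U hAU.symm (Commute.refl _)).symm
    refine ⟨y' * y1, hy'u.mul hy1u, hy'U.mul_left hy1U, fun Z hZA hZU =>
      (hy'c Z (hPinv Z hZA hZU) hZU).mul_right (hy1c Z hZA hZU), fun a c => ?_⟩
    have hc2 : Commute A' y1 :=
      (hPinv y1 (hy1c A (Commute.refl _) hAU).symm hy1U).symm
    rw [Module.End.mul_apply, Module.End.mul_apply, hy', ← Module.End.mul_apply, hc2.eq, Module.End.mul_apply,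
      hnorm, ← Module.End.mul_apply]
    have : P * A' = A := by
      rw [hA', ← mul_assoc, (hPcomm A (Commute.refl _) hAU).symm.eq, mul_assoc, ← hpu, pu.mul_inv, mul_one]
    rw [this]

/-- Every invariant form is isometric to the given one, by a map commuting with the isometry. -/
theorem exists_norm [FiniteDimensional F V] (hN : IsUnit T.N) {A : Module.End F V} (hA : T.Adj A A)
    (hAU : Commute A T.U) (hAu : IsUnit A) :
    ∃ y : Module.End F V, IsUnit y ∧ Commute y T.U ∧ ∀ a c, T.B (y a) (y c) = T.B (A a) c := by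
  haveI : Finite V := Module.finite_of_finite F
  haveI : Finite (Module.End F V) := Finite.of_injective (fun f : Module.End F V => (f : V → V)) DFunLike.coe_injective
  obtain ⟨Au, rfl⟩ := hAu
  set N := orderOf Au with hN'
  have hNpos : 0 < N := orderOf_pos Au
  obtain ⟨a, m, hm, hNm⟩ := Nat.exists_eq_two_pow_mul_odd hNpos.ne'
  have hcop : Nat.Coprime m (2 ^ a) := (Nat.coprime_two_right.2 hm).pow_right a
  obtain ⟨e1, h1a, h1b⟩ := Nat.chineseRemainder hcop 0 1
  obtain ⟨e2, h2a, h2b⟩ := Nat.chineseRemainder hcop 1 0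
  have he1 : m ∣ e1 := Nat.modEq_zero_iff_dvd.1 h1a
  have he2 : 2 ^ a ∣ e2 := Nat.modEq_zero_iff_dvd.1 h2b
  have hsum : e1 + e2 ≡ 1 [MOD N] := by
    rw [hNm]
    refine (Nat.modEq_and_modEq_iff_modEq_mul hcop.symm).1 ⟨?_, ?_⟩
    · simpa using h1b.add h2b
    · simpa using h1a.add h2a
  have hpow : ∀ {x y : ℕ}, x ≡ y [MOD N] → Au ^ x = Au ^ y := fun h => pow_eq_pow_iff_modEq.2 h
  have hA1 : (Au ^ e1) ^ 2 ^ a = 1 := by
    rw [← pow_mul]
    refine orderOf_dvd_iff_pow_eq_one.1 ?_
    rw [← hN', hNm, mul_comm (2 ^ a) m]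
    exact Nat.mul_dvd_mul_right he1 _
  obtain ⟨y1, hy1u, hy1U, hy1c, hy1⟩ := T.exists_norm_unipotent hN (2 ^ a) ((Au : Module.End F V) ^ e1)
    (hA.pow e1) (hAU.pow_left e1) (by
      rw [add_one_pow_two_pow, show ((Au : Module.End F V) ^ e1) ^ 2 ^ a = 1 by
        rw [← Units.val_pow_eq_pow_val, ← Units.val_pow_eq_pow_val, hA1, Units.val_one], end_add_self])
  obtain ⟨s, hs⟩ := hm
  set y2 : Module.End F V := ((Au : Module.End F V) ^ e2) ^ (s + 1) with hy2
  have hy2sq : y2 * y2 = (Au : Module.End F V) ^ e2 := by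
    have hone : Au ^ (e2 * m) = 1 := by
      refine orderOf_dvd_iff_pow_eq_one.1 ?_
      rw [← hN', hNm]
      exact Nat.mul_dvd_mul_right he2 _
    rw [hy2, ← pow_add, show s + 1 + (s + 1) = m + 1 by omega, pow_succ, ← pow_mul, ← Units.val_pow_eq_pow_val,
      ← Units.val_pow_eq_pow_val, hone, Units.val_one, one_mul]
  have hc : Commute y2 ((Au : Module.End F V) ^ e1) := ((Commute.refl _).pow_pow e2 e1).pow_left _
  refine ⟨y1 * y2, hy1u.mul ((Au.isUnit.pow e2).pow _), hy1U.mul_left ((hAU.pow_left e2).pow_left _), fun b c => ?_⟩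
  rw [Module.End.mul_apply, Module.End.mul_apply, hy1, ← Module.End.mul_apply, ← hc.eq, Module.End.mul_apply,
    (hA.pow e2).pow (s + 1) _ _]
  have e3 : y2 = ((Au : Module.End F V) ^ e2) ^ (s + 1) := hy2
  rw [← e3, ← Module.End.mul_apply, hy2sq, ← (hA.pow e2) , ← Module.End.mul_apply, ← pow_add,
    ← Units.val_pow_eq_pow_val, hpow (show e2 + e1 ≡ 1 [MOD N] by rwa [add_comm]), pow_one]

end Sys

/-- Fixed-point-free isometries which are similar are isometric. -/
theorem exists_isometry {V' : Type w} [AddCommGroup V'] [Module F V'] [FiniteDimensional F V] (T : Sys F V)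
    (T' : Sys F V') (hN : IsUnit T.N) (ψ : V ≃ₗ[F] V') (hψ : ∀ x, ψ (T.U x) = T'.U (ψ x)) :
    ∃ φ : V ≃ₗ[F] V', (∀ x y, T'.B (φ x) (φ y) = T.B x y) ∧ ∀ x, φ (T.U x) = T'.U (φ x) := by
  have hbij : Function.Bijective T.B := by
    have hinj : Function.Injective T.B := (injective_iff_map_eq_zero T.B).2 fun x hx =>
      T.nondeg x fun y => by rw [hx, LinearMap.zero_apply]
    exact ⟨hinj, (LinearMap.injective_iff_surjective_of_finrank_eq_finrank
      (Subspace.dual_finrank_eq).symm).1 hinj⟩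
  let Φ : V ≃ₗ[F] (V →ₗ[F] F) := LinearEquiv.ofBijective T.B hbij
  let A : Module.End F V :=
    Φ.symm.toLinearMap ∘ₗ (ψ.toLinearMap.dualMap ∘ₗ T'.B ∘ₗ ψ.toLinearMap)
  have hA : ∀ a c, T.B (A a) c = T'.B (ψ a) (ψ c) := by
    intro a c
    have : T.B (A a) = ψ.toLinearMap.dualMap (T'.B (ψ a)) := Φ.apply_symm_apply _
    rw [this]; rfl
  have hAadj : T.Adj A A := fun a c => by rw [hA, T.B_symm, hA, T'.B_symm]
  have hψi : ∀ x, ψ (T.Ui x) = T'.Ui (ψ x) := by
    intro x
    apply T'.g.injective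
    show T'.U (ψ (T.Ui x)) = T'.U (T'.Ui (ψ x))
    rw [← hψ, ← Module.End.mul_apply, ← Module.End.mul_apply, T.U_mul_Ui, T'.U_mul_Ui]
    rfl
  have hAU : Commute A T.U := LinearMap.ext fun a => by
    show A (T.U a) = T.U (A a)
    rw [← sub_eq_zero]
    refine T.nondeg _ fun c => ?_
    rw [map_sub, LinearMap.sub_apply, hA, hψ, T'.U_adj, ← hψi, T.U_adj, hA, sub_self]
  have hAu : IsUnit A := by
    rw [LinearMap.isUnit_iff_ker_eq_bot, LinearMap.ker_eq_bot']
    intro a ha
    refine ψ.map_eq_zero_iff.1 (T'.nondeg _ fun z => ?_)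
    obtain ⟨c, rfl⟩ := ψ.surjective z
    rw [← hA, ha, map_zero, LinearMap.zero_apply]
  obtain ⟨y, ⟨yu, rfl⟩, hyU, hy⟩ := T.exists_norm hN hAadj hAU hAu
  refine ⟨(LinearMap.GeneralLinearGroup.generalLinearEquiv F V yu).symm.trans ψ, fun a c => ?_, fun a => ?_⟩
  · show T'.B (ψ ((↑yu⁻¹ : Module.End F V) a)) (ψ ((↑yu⁻¹ : Module.End F V) c)) = T.B a c
    rw [← hA, ← hy, ← Module.End.mul_apply, ← Module.End.mul_apply, yu.mul_inv]
    rfl
  · show ψ ((↑yu⁻¹ : Module.End F V) (T.U a)) = T'.U (ψ ((↑yu⁻¹ : Module.End F V) a))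
    rw [← hψ, ← Module.End.mul_apply, hyU.units_inv_left.eq, Module.End.mul_apply]

end Cfsg.Agent.Small.SpEven
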