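import Mathlib
import Cfsg.Agent.Lib.Small.ClassNumberSp2.Decomp

/-!
Rewriting a decomposition into normal form.
-/

set_option autoImplicit false
set_option linter.unusedSectionVars false
set_option linter.style.haveILetI false

namespace Cfsg.Agent.Small.SpEven

universe u v

/-- the kinds whose presence standardises a kind -/
def Lk : Kind → Kind → Prop
  | .V i, .V j => 2 ≤ i ∧ (j = i ∨ j + 1 = i)
  | .V i, .W k => 2 ≤ i ∧ k + 1 = 2 * i
  | .W k, .V j => ∃ q, 2 * q + 3 = k ∧ j = q + 1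
  | .W k, .W l => l = k ∧ ∃ q, 2 * q + 3 = k

/-- position on the line of kinds -/
def Kind.pos : Kind → ℕ
  | .V i => 2 * i
  | .W k => k

/-- single blocks -/
def Kind.isV : Kind → Bool
  | .V _ => true
  | .W _ => false

/-- normal forms -/
def Nice (L : Multiset Tag) : Prop :=
  (∀ i, (L.filter fun t => t.1 = Kind.V i).card ≤ 2) ∧
    ∀ t ∈ L, t.2 = true → ∀ s ∈ L.erase t, Lk t.1 s.1 → s.1 = t.1 ∧ s.2 = false

/-- the potential of one tag -/
def pot (t : Tag) : ℕ := if t.2 = true then 3 ^ t.1.pos else 0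

theorem pot_le (t : Tag) : pot t ≤ 3 ^ t.1.pos := by
  unfold pot
  split_ifs
  · exact le_rfl
  · exact Nat.zero_le _

theorem Lk.pos_lt {a b : Kind} (h : Lk a b) (hne : b ≠ a) : b.pos < a.pos := by
  cases a <;> cases b <;> simp only [Lk, Kind.pos, ne_eq, Kind.V.injEq, Kind.W.injEq] at *
  · omega
  · omega
  · obtain ⟨q, h1, h2⟩ := h; omega
  · exact absurd h.1 hne

variable {F : Type u} [Field F] [Fintype F] [CharP F 2]
variable {V : Type v} [AddCommGroup V] [Module F V] [FiniteDimensional F V]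

namespace Sys

variable (T : Sys F V)

theorem top_odd {k q : ℕ} (hkq : k = 2 * q + 1) {x : V} (hx : (T.N ^ k) x = 0) :
    T.B ((T.N ^ (k - 1)) x) x = 0 := by
  have h := T.S_pow_N_top (j := q) (e := 0) hx (by omega)
  rw [pow_zero, Module.End.one_apply] at h
  rw [show k - 1 = 2 * q + 0 by omega, ← h]
  exact T.S_pow_self q x

theorem exists_mu_ne {k q : ℕ} (hkq : k = 2 * q + 3) {v w : V} (h : T.IsW k v w) :
    ∃ y ∈ Submodule.span F (Set.range (T.famW k v w)), (T.N ^ k) y = 0 ∧ T.mu q y ≠ 0 := by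
  obtain ⟨hk, hv, hw, he, -, -⟩ := id h
  have hvm : v ∈ Submodule.span F (Set.range (T.famW k v w)) :=
    Submodule.subset_span ⟨Sum.inl ⟨0, by omega⟩, rfl⟩
  have hwm : w ∈ Submodule.span F (Set.range (T.famW k v w)) :=
    Submodule.subset_span ⟨Sum.inr ⟨0, by omega⟩, rfl⟩
  by_cases h1 : T.mu q v = 0
  · by_cases h2 : T.mu q w = 0
    · refine ⟨v + w, Submodule.add_mem _ hvm hwm, by rw [map_add, hv, hw, add_zero], ?_⟩
      have e := T.B_S_N (p := q + 1) (m := 0) (y := w) hv (by omega)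
      rw [if_pos (by omega), pow_zero, Module.End.one_apply] at e
      rw [T.mu_add, h1, h2, zero_add, zero_add, e]
      exact he
    · exact ⟨w, hwm, hw, h2⟩
  · exact ⟨v, hvm, hv, h1⟩

theorem compl_partner {T0 X : Submodule F V} (hsup : X ⊔ T.compl T0 X = T0) {y : V} (hy : y ∈ T0) :
    ∃ z ∈ T.compl T0 X, y + z ∈ X := by
  rw [← hsup] at hy
  obtain ⟨a, ha, b, hb, rfl⟩ := Submodule.mem_sup.1 hy
  exact ⟨b, hb, by rwa [add_assoc, add_self_eq (F := F), add_zero]⟩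

/-- Replacing one summand forces a summand of the same kind as the other. -/
theorem exchange {T0 D X : Submodule F V} {s t : Tag} (h0 : T.ND T0) (hi0 : T.Inv T0) (hD : T.Piece s D)
    (hDT : D ≤ T0) (hX : T.Piece t X) (hXT : X ≤ T0) (hsup : X ⊔ D = T0)
    (hdim : Module.finrank F T0 = Module.finrank F X + Module.finrank F D)
    (hk : ∀ k, s.1 = Kind.W k → ∃ q, k = 2 * q + 1) :
    ∃ Z b, T.Piece (s.1, b) Z ∧ T.Orth X Z ∧ X ⊔ Z = T0 := by
  obtain ⟨ho, hsupZ, hZnd, hZi⟩ := T.compl_spec h0 hi0 hX.nd hX.inv hXT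
  set Z := T.compl T0 X with hZdef
  have hinfD : X ⊓ D = ⊥ := by
    have h1 := Submodule.finrank_sup_add_finrank_inf_eq X D
    rw [hsup, hdim] at h1
    exact Submodule.finrank_eq_zero.1 (by omega)
  have hinfZ : X ⊓ Z = ⊥ := hX.nd.inf_eq_bot ho
  have hdimZ : Module.finrank F Z = Module.finrank F D := by
    have h1 := Submodule.finrank_sup_add_finrank_inf_eq X Z
    rw [hsupZ, hdim, hinfZ, finrank_bot] at h1
    omega
  have hpow : ∀ {k : ℕ} {y z : V}, (T.N ^ k) y = 0 → z ∈ Z → y + z ∈ X → (T.N ^ k) z = 0 := by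
    intro k y z hy hz hyz
    have h1 : (T.N ^ k) z ∈ X := by
      have := hX.inv.pow k _ hyz
      rwa [map_add, hy, zero_add] at this
    exact (Submodule.mem_bot F).1 (hinfZ ▸ ⟨h1, hZi.pow k z hz⟩)
  have hli : ∀ {ι : Type} [Fintype ι] (fy fz : ι → V), LinearIndependent F fy → (∀ a, fy a ∈ D) →
      (∀ a, fy a + fz a ∈ X) → LinearIndependent F fz := by
    intro ι _ fy fz hfy hmem hadd
    rw [Fintype.linearIndependent_iff] at hfy ⊢
    intro c hc
    refine hfy c ((Submodule.mem_bot F).1 (hinfD ▸ ⟨?_, D.sum_mem fun a _ => D.smul_mem _ (hmem a)⟩))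
    have h1 : ∑ a, c a • (fy a + fz a) ∈ X := X.sum_mem fun a _ => X.smul_mem _ (hadd a)
    simpa [smul_add, Finset.sum_add_distrib, hc] using h1
  have hnz : ∀ {a : ℕ} {y z : V}, (T.N ^ a) y ∈ D → (T.N ^ a) y ≠ 0 → y + z ∈ X → (T.N ^ a) z ≠ 0 := by
    intro a y z hyD hne hyz hz0
    have h1 := hX.inv.pow a _ hyz
    rw [map_add, hz0, add_zero] at h1
    exact hne ((Submodule.mem_bot F).1 (hinfD ▸ ⟨h1, hyD⟩))
  obtain ⟨i | k, b₀⟩ := s
  · obtain ⟨⟨hi, -⟩, y, ⟨hy, -⟩, rfl⟩ := hD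
    have hfy : ∀ a, T.famV (2 * i) y a ∈ Submodule.span F (Set.range (T.famV (2 * i) y)) :=
      fun a => Submodule.subset_span ⟨a, rfl⟩
    obtain ⟨z, hz, hyz⟩ := T.compl_partner hsupZ (hDT hy.mem)
    have hzk := hpow hy.2.1 hz hyz
    have hl := hli (T.famV (2 * i) y) (T.famV (2 * i) z) hy.linearIndependent hfy fun a => by
      have h2 := hX.inv.pow (a : ℕ) _ hyz
      rwa [map_add] at h2
    have hspan : Submodule.span F (Set.range (T.famV (2 * i) z)) = Z := by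
      refine Submodule.eq_of_le_of_finrank_eq (T.famV_le hZi hz) ?_
      rw [finrank_span_eq_card hl, hdimZ, finrank_span_eq_card hy.linearIndependent]
    have hne : (T.N ^ (2 * i - 1)) y ≠ 0 := fun h => hy.2.2 (by
      rw [← T.top_mu hi hy.2.1, h, map_zero, LinearMap.zero_apply])
    have hzne := hnz (hfy ⟨2 * i - 1, by omega⟩) hne hyz
    have hV : T.IsV i z := by
      refine ⟨hi, hzk, fun hμ => hzne (hZnd _ (hZi.pow _ z hz) fun u hu => ?_)⟩
      rw [← hspan] at hu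
      obtain ⟨c, rfl⟩ := (Submodule.mem_span_range_iff_exists_fun F).1 hu
      rw [map_sum]
      refine Finset.sum_eq_zero fun a _ => ?_
      rw [map_smul, famV, T.B_N_N_top hzk (show 2 * i ≤ 2 * i - 1 + (a : ℕ) + 1 by omega)]
      split_ifs
      · rw [T.top_mu hi hzk, hμ, smul_zero]
      · rw [smul_zero]
    obtain ⟨b, -, hp⟩ := T.exists_piece_V hV
    exact ⟨Z, b, hspan ▸ hp, ho, hsupZ⟩
  · obtain ⟨⟨hk1, -⟩, y, y', ⟨hy, -⟩, rfl⟩ := hD
    obtain ⟨q, hkq⟩ := hk k rfl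
    have hfy : ∀ a, T.famW k y y' a ∈ Submodule.span F (Set.range (T.famW k y y')) :=
      fun a => Submodule.subset_span ⟨a, rfl⟩
    obtain ⟨z, hz, hyz⟩ := T.compl_partner hsupZ (hDT (hfy (Sum.inl ⟨0, by omega⟩)))
    obtain ⟨z', hz', hyz'⟩ := T.compl_partner hsupZ (hDT (hfy (Sum.inr ⟨0, by omega⟩)))
    change y + z ∈ X at hyz
    change y' + z' ∈ X at hyz'
    have hzk := hpow hy.2.1 hz hyz
    have hzk' := hpow hy.2.2.1 hz' hyz'
    have hl := hli (T.famW k y y') (T.famW k z z') hy.linearIndependent hfy fun a => by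
      rcases a with a | a
      · have h2 := hX.inv.pow (a : ℕ) _ hyz
        rwa [map_add] at h2
      · have h2 := hX.inv.pow (a : ℕ) _ hyz'
        rwa [map_add] at h2
    have hspan : Submodule.span F (Set.range (T.famW k z z')) = Z := by
      refine Submodule.eq_of_le_of_finrank_eq (T.famW_le hZi hz hz') ?_
      rw [finrank_span_eq_card hl, hdimZ, finrank_span_eq_card hy.linearIndependent]
    have hne : (T.N ^ (k - 1)) y ≠ 0 := fun h => hy.2.2.2.1 (by rw [h, map_zero, LinearMap.zero_apply])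
    have hzne := hnz (hfy (Sum.inl ⟨k - 1, by omega⟩)) hne hyz
    have hW : T.IsW k z z' := by
      refine ⟨hk1, hzk, hzk', fun he => hzne (hZnd _ (hZi.pow _ z hz) fun u hu => ?_), T.top_odd hkq hzk,
        T.top_odd hkq hzk'⟩
      rw [← hspan] at hu
      obtain ⟨c, rfl⟩ := (Submodule.mem_span_range_iff_exists_fun F).1 hu
      rw [map_sum]
      refine Finset.sum_eq_zero fun a _ => ?_
      rcases a with a | a
      · rw [map_smul, famW, Sum.elim_inl, famV, T.B_N_N_top hzk (show k ≤ k - 1 + (a : ℕ) + 1 by omega)]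
        split_ifs
        · rw [T.top_odd hkq hzk, smul_zero]
        · rw [smul_zero]
      · rw [map_smul, famW, Sum.elim_inr, famV, T.B_N_N_top hzk (show k ≤ k - 1 + (a : ℕ) + 1 by omega)]
        split_ifs
        · rw [he, smul_zero]
        · rw [smul_zero]
    obtain ⟨b, -, hp⟩ := T.exists_piece_W hW
    exact ⟨Z, b, hspan ▸ hp, ho, hsupZ⟩

/-- A summand next to a linked one can be taken standard. -/
theorem standardise {a s : Tag} {C D : Submodule F V} (hC : T.Piece a C) (hD : T.Piece s D) (ho : T.Orth C D)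
    (hL : Lk a.1 s.1) : ∃ b, T.Dec (C ⊔ D) ((a.1, false) ::ₘ {(s.1, b)}) := by
  have hnd := hC.nd.sup hD.nd ho
  have hinv := hC.inv.sup hD.inv
  have hdimCD : Module.finrank F ↥(C ⊔ D) = Module.finrank F C + Module.finrank F D := by
    have h1 := Submodule.finrank_sup_add_finrank_inf_eq C D
    rw [hC.nd.inf_eq_bot ho, finrank_bot, add_zero] at h1
    exact h1
  have hsodd : ∀ k, s.1 = Kind.W k → ∃ q, k = 2 * q + 1 := by
    intro k hk
    rw [hk] at hL
    rcases ha : a.1 with i | l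
    · rw [ha] at hL; obtain ⟨h2, h3⟩ := hL; exact ⟨i - 1, by omega⟩
    · rw [ha] at hL; obtain ⟨rfl, q, hq⟩ := hL; exact ⟨q + 1, by omega⟩
  suffices hX : ∃ X, T.Piece (a.1, false) X ∧ X ≤ C ⊔ D ∧ C ≤ X ⊔ D by
    obtain ⟨X, hXp, hXle, hCle⟩ := hX
    have hsup : X ⊔ D = C ⊔ D := le_antisymm (sup_le hXle le_sup_right) (sup_le hCle le_sup_right)
    obtain ⟨Z, b, hZ, hoZ, hsupZ⟩ := T.exchange hnd hinv hD le_sup_right hXp hXle hsup
      (by rw [hdimCD, hXp.finrank, hC.finrank]) hsodd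
    exact ⟨b, hsupZ ▸ Dec.cons hXp (Dec.single hZ) hoZ⟩
  obtain ⟨i | k, b₀⟩ := a
  · obtain ⟨-, x, ⟨hx, -⟩, rfl⟩ := hC
    have hsup : ∃ y ∈ D, (T.N ^ (2 * i)) y = 0 ∧ T.mu (i - 2) y ≠ 0 ∧ T.mu (i - 1) y = 0 := by
      obtain ⟨j | l, b₁⟩ := s
      · obtain ⟨hi2, hj⟩ := hL
        obtain ⟨-, w, ⟨hw, -⟩, rfl⟩ := hD
        have hwm := hw.mem
        obtain ⟨hj1, hwk, hwμ⟩ := hw
        rcases hj with rfl | rfl
        · refine ⟨T.N w, T.inv_famV hwk w hwm, ?_, ?_, ?_⟩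
          · rw [← Module.End.mul_apply, ← pow_succ, T.pow_zero_of_le hwk (Nat.le_succ _)]
          · rw [T.mu_N, show j - 2 + 1 = j - 1 by omega]; exact hwμ
          · rw [T.mu_N]; exact T.mu_hi hwk (by omega)
        · exact ⟨w, hwm, T.pow_zero_of_le hwk (by omega), by rw [show j + 1 - 2 = j - 1 by omega]; exact hwμ,
            T.mu_hi hwk (by omega)⟩
      · obtain ⟨hi2, hl⟩ := hL
        obtain ⟨-, w, w', ⟨hw, -⟩, rfl⟩ := hD
        obtain ⟨y, hym, hyk, hy0⟩ := T.exists_mu_ne (q := i - 2) (by omega) hw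
        exact ⟨y, hym, T.pow_zero_of_le hyk (by omega), hy0, T.mu_hi hyk (by omega)⟩
    obtain ⟨y, hy, hyk, hy2, hy1⟩ := hsup
    obtain ⟨c, hc⟩ := exists_sqrt (T.mu (i - 2) x / T.mu (i - 2) y)
    have horth : ∀ j, T.mu j (x + c • y) = T.mu j x + c ^ 2 * T.mu j y := by
      intro j
      rw [T.mu_add, T.mu_smul, map_smul, smul_eq_mul]
      have : T.B ((T.S ^ (j + 1)) x) y = 0 :=
        ho _ ((T.inv_famV hx.2.1).S_pow_mem hx.2.1 (j + 1) hx.mem hx.2.1) y hy
      rw [this, mul_zero, add_zero]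
    have hV : T.IsV i (x + c • y) := ⟨hx.1, by rw [map_add, map_smul, hx.2.1, hyk, smul_zero, add_zero],
      by rw [horth, hy1, mul_zero, add_zero]; exact hx.2.2⟩
    obtain ⟨b, hb, hp⟩ := T.exists_piece_V hV
    obtain rfl : b = false := hb (by obtain ⟨j | l, b₁⟩ := s <;> exact hL.1) ⟨0, by
      rw [horth (i - 2), hc, div_mul_cancel₀ _ hy2, CharTwo.add_self_eq_zero, zero_div]; ring⟩
    refine ⟨_, hp, T.famV_le hinv (Submodule.add_mem _ (Submodule.mem_sup_left hx.mem)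
      (Submodule.smul_mem _ c (Submodule.mem_sup_right hy))), T.famV_le (hp.inv.sup hD.inv) ?_⟩
    refine Submodule.mem_sup.2 ⟨x + c • y, hV.mem, c • y, D.smul_mem c hy, ?_⟩
    rw [add_assoc, add_self_eq (F := F), add_zero]
  · obtain ⟨-, x, x', ⟨hx, -⟩, rfl⟩ := hC
    obtain ⟨hk1, hxk, hxk', hxe, hxx, hxx'⟩ := id hx
    obtain ⟨q, hq, hsup⟩ : ∃ q, 2 * q + 3 = k ∧ ∃ y ∈ D, (T.N ^ k) y = 0 ∧ T.mu q y ≠ 0 := by
      obtain ⟨j | l, b₁⟩ := s
      · obtain ⟨q, hq, rfl⟩ := hL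
        obtain ⟨-, w, ⟨hw, -⟩, rfl⟩ := hD
        exact ⟨q, hq, w, hw.mem, T.pow_zero_of_le hw.2.1 (by omega), by simpa using hw.2.2⟩
      · obtain ⟨rfl, q, hq⟩ := hL
        obtain ⟨-, w, w', ⟨hw, -⟩, rfl⟩ := hD
        exact ⟨q, hq, T.exists_mu_ne (q := q) hq.symm hw⟩
    obtain ⟨y, hy, hyk, hyμ⟩ := hsup
    obtain ⟨c, hc⟩ := exists_sqrt (T.mu q x / T.mu q y)
    have hxm : x ∈ Submodule.span F (Set.range (T.famW k x x')) :=
      Submodule.subset_span ⟨Sum.inl ⟨0, by omega⟩, rfl⟩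
    have hxm' : x' ∈ Submodule.span F (Set.range (T.famW k x x')) :=
      Submodule.subset_span ⟨Sum.inr ⟨0, by omega⟩, rfl⟩
    have hCi := T.inv_famW hxk hxk'
    have horth : T.mu q (x + c • y) = 0 := by
      rw [T.mu_add, T.mu_smul, map_smul, smul_eq_mul, ho _ (hCi.S_pow_mem hxk (q + 1) hxm hxk) y hy, mul_zero,
        add_zero, hc, div_mul_cancel₀ _ hyμ, CharTwo.add_self_eq_zero]
    have hyk' : (T.N ^ k) (x + c • y) = 0 := by rw [map_add, map_smul, hxk, hyk, smul_zero, add_zero]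
    have hW : T.IsW k (x + c • y) x' := ⟨hk1, hyk', hxk', by
      rw [map_add, map_smul, LinearMap.map_add, LinearMap.add_apply, map_smul, LinearMap.smul_apply,
        (ho.symm) _ (hD.inv.pow (k - 1) y hy) x' hxm', smul_zero, add_zero]
      exact hxe, T.top_odd (q := q + 1) (by omega) hyk', hxx'⟩
    obtain ⟨b, hb, hp⟩ := T.exists_piece_W hW
    obtain rfl : b = false := hb fun q' hq' => by
      obtain rfl : q' = q := by omega
      exact horth
    refine ⟨_, hp, T.famW_le hinv (Submodule.add_mem _ (Submodule.mem_sup_left hxm)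
      (Submodule.smul_mem _ c (Submodule.mem_sup_right hy))) (Submodule.mem_sup_left hxm'),
      T.famW_le (hp.inv.sup hD.inv) ?_ (Submodule.mem_sup_left (Submodule.subset_span ⟨Sum.inr ⟨0, by omega⟩, rfl⟩))⟩
    refine Submodule.mem_sup.2 ⟨x + c • y, Submodule.subset_span ⟨Sum.inl ⟨0, by omega⟩, rfl⟩, c • y,
      D.smul_mem c hy, ?_⟩
    rw [add_assoc, add_self_eq (F := F), add_zero]

/-- Three single blocks of one size contain a pair. -/
theorem three_V {i : ℕ} {b₁ b₂ b₃ : Bool} {C₁ C₂ C₃ : Submodule F V} (h₁ : T.Piece (.V i, b₁) C₁)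
    (h₂ : T.Piece (.V i, b₂) C₂) (h₃ : T.Piece (.V i, b₃) C₃) (o₁₂ : T.Orth C₁ C₂) (o₁₃ : T.Orth C₁ C₃)
    (o₂₃ : T.Orth C₂ C₃) :
    ∃ b b', T.Dec (C₁ ⊔ C₂ ⊔ C₃) ((Kind.W (2 * i), b) ::ₘ {(Kind.V i, b')}) := by
  have hnd := (h₁.nd.sup h₂.nd o₁₂).sup h₃.nd (o₁₃.sup_left o₂₃)
  have hinv := (h₁.inv.sup h₂.inv).sup h₃.inv
  have hdim : Module.finrank F ↥(C₁ ⊔ C₂ ⊔ C₃) = 2 * (2 * i) + Module.finrank F C₃ := by
    have h12 := Submodule.finrank_sup_add_finrank_inf_eq C₁ C₂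
    rw [h₁.nd.inf_eq_bot o₁₂, finrank_bot, add_zero, h₁.finrank, h₂.finrank] at h12
    have h123 := Submodule.finrank_sup_add_finrank_inf_eq (C₁ ⊔ C₂) C₃
    rw [(h₁.nd.sup h₂.nd o₁₂).inf_eq_bot (o₁₃.sup_left o₂₃), finrank_bot, add_zero, h12] at h123
    rw [h123]; simp [Kind.wt]; ring
  obtain ⟨⟨hi, -⟩, x₁, hx₁, e₁⟩ := id h₁
  obtain ⟨-, x₂, hx₂, e₂⟩ := id h₂
  obtain ⟨-, x₃, hx₃, e₃⟩ := id h₃
  have m₁ : x₁ ∈ C₁ := e₁ ▸ hx₁.1.mem
  have m₂ : x₂ ∈ C₂ := e₂ ▸ hx₂.1.mem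
  have m₃ : x₃ ∈ C₃ := e₃ ▸ hx₃.1.mem
  have hone : ∀ {x : V} {b : Bool}, T.CanV i b x → T.B ((T.N ^ (2 * i - 1)) x) x = 1 := fun hx => by
    rw [T.top_mu hi hx.1.2.1, hx.2, tV, if_pos (by omega)]
  have z12 := o₁₂ _ (h₁.inv.pow (2 * i - 1) _ m₁) _ m₂
  have z21 := o₁₂.symm _ (h₂.inv.pow (2 * i - 1) _ m₂) _ m₁
  have z13 := o₁₃ _ (h₁.inv.pow (2 * i - 1) _ m₁) _ m₃
  have z23 := o₂₃ _ (h₂.inv.pow (2 * i - 1) _ m₂) _ m₃
  have z32 := o₂₃.symm _ (h₃.inv.pow (2 * i - 1) _ m₃) _ m₂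
  have n₁ := hx₁.1.2.1
  have n₂ := hx₂.1.2.1
  have n₃ := hx₃.1.2.1
  have hW : T.IsW (2 * i) (x₁ + x₂) (x₂ + x₃) := by
    refine ⟨by omega, by rw [map_add, n₁, n₂, add_zero], by rw [map_add, n₂, n₃, add_zero], ?_, ?_, ?_⟩ <;>
      simp only [map_add, LinearMap.add_apply, hone hx₁, hone hx₂, hone hx₃, z12, z21, z13, z23, z32, add_zero,
        zero_add, CharTwo.add_self_eq_zero, ne_eq, one_ne_zero, not_false_eq_true]
  obtain ⟨b, -, hp⟩ := T.exists_piece_W hW
  have hXle : Submodule.span F (Set.range (T.famW (2 * i) (x₁ + x₂) (x₂ + x₃))) ≤ C₁ ⊔ C₂ ⊔ C₃ := by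
    refine T.famW_le hinv ?_ ?_
    · exact Submodule.mem_sup_left (Submodule.add_mem_sup m₁ m₂)
    · exact Submodule.add_mem _ (Submodule.mem_sup_left (Submodule.mem_sup_right m₂)) (Submodule.mem_sup_right m₃)
  set X := Submodule.span F (Set.range (T.famW (2 * i) (x₁ + x₂) (x₂ + x₃))) with hXdef
  have a1 : x₁ + x₂ ∈ X := Submodule.subset_span ⟨Sum.inl ⟨0, by omega⟩, rfl⟩
  have a2 : x₂ + x₃ ∈ X := Submodule.subset_span ⟨Sum.inr ⟨0, by omega⟩, rfl⟩
  have b2 : x₂ ∈ X ⊔ C₃ := by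
    refine Submodule.mem_sup.2 ⟨x₂ + x₃, a2, x₃, m₃, ?_⟩
    rw [add_assoc, add_self_eq (F := F), add_zero]
  have b1 : x₁ ∈ X ⊔ C₃ := by
    have := Submodule.add_mem _ (Submodule.mem_sup_left (T := C₃) a1) b2
    rwa [add_assoc, add_self_eq (F := F), add_zero] at this
  have hXi : T.Inv (X ⊔ C₃) := hp.inv.sup h₃.inv
  have hsup : X ⊔ C₃ = C₁ ⊔ C₂ ⊔ C₃ := le_antisymm (sup_le hXle le_sup_right)
    (sup_le (sup_le (e₁ ▸ T.famV_le hXi b1) (e₂ ▸ T.famV_le hXi b2)) le_sup_right)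
  obtain ⟨Z, b', hZ, hoZ, hsupZ⟩ := T.exchange hnd hinv h₃ le_sup_right hp hXle hsup
    (by rw [hdim, hp.finrank]; rfl) (fun k hk => by simp at hk)
  exact ⟨b, b', hsupZ ▸ Dec.cons hp (Dec.single hZ) hoZ⟩

/-- Every decomposition can be brought to normal form. -/
theorem exists_nice {W : Submodule F V} : ∀ {L : Multiset Tag}, T.Dec W L → ∃ L', T.Dec W L' ∧ Nice L' := by
  classical
  suffices hs : ∀ nv p : ℕ, ∀ L : Multiset Tag, T.Dec W L → (L.filter fun t => t.1.isV = true).card = nv →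
      (L.map pot).sum = p → ∃ L', T.Dec W L' ∧ Nice L' from fun {L} h => hs _ _ L h rfl rfl
  intro nv
  induction nv using Nat.strong_induction_on with
  | _ nv ihv =>
    intro p
    induction p using Nat.strong_induction_on with
    | _ p ihp =>
      intro L hd hnv hp
      by_cases h1 : ∀ i, (L.filter fun t => t.1 = Kind.V i).card ≤ 2
      · by_cases h2 : ∀ t ∈ L, t.2 = true → ∀ s ∈ L.erase t, Lk t.1 s.1 → s.1 = t.1 ∧ s.2 = false
        · exact ⟨L, hd, h1, h2⟩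
        push Not at h2
        obtain ⟨t, ht, htt, s, hs, hlk, hne⟩ := h2
        obtain ⟨C, W', hC, hW', ho, rfl⟩ := hd.extract t ht
        obtain ⟨D, W'', hD, hW'', ho', rfl⟩ := hW'.extract s hs
        obtain ⟨b, hb⟩ := T.standardise hC hD (ho.mono le_rfl le_sup_left) hlk
        have hnew := hb.add hW'' ((ho.mono le_rfl le_sup_right).sup_left ho')
        rw [sup_assoc] at hnew
        obtain ⟨R, hR⟩ : ∃ R, R = (L.erase t).erase s := ⟨_, rfl⟩
        rw [← hR] at hnew hW''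
        have hLe : L = t ::ₘ s ::ₘ R := by rw [hR, Multiset.cons_erase hs, Multiset.cons_erase ht]
        have hcons : ((t.1, false) ::ₘ ({(s.1, b)} : Multiset Tag)) + R = (t.1, false) ::ₘ (s.1, b) ::ₘ R := by
          rw [Multiset.cons_add, Multiset.singleton_add]
        rw [hcons] at hnew
        refine ihp _ ?_ _ hnew ?_ rfl
        · rw [← hp, hLe]
          simp only [Multiset.map_cons, Multiset.sum_cons]
          have e1 : pot (t.1, false) = 0 := if_neg (by simp)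
          have e2 : pot t = 3 ^ t.1.pos := if_pos htt
          have e3 := pot_le (s.1, b)
          have e4 := pot_le s
          rw [e1, e2]
          by_cases hk : s.1 = t.1
          · have e5 : pot s = 3 ^ t.1.pos := by
              rw [← hk]
              exact if_pos (by simpa using hne hk)
            have e6 : 0 < 3 ^ t.1.pos := pow_pos (by norm_num) _
            have e7 : 3 ^ (s.1, b).1.pos = 3 ^ t.1.pos := by rw [← hk]
            rw [e7] at e3
            omega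
          · have e7 : 3 ^ s.1.pos < 3 ^ t.1.pos := Nat.pow_lt_pow_right (by norm_num) (hlk.pos_lt hk)
            simp only at e3
            omega
        · rw [← hnv, hLe]
          simp only [Multiset.filter_cons, Multiset.card_add]
          split_ifs <;> simp
      · push Not at h1
        obtain ⟨i, hi⟩ := h1
        obtain ⟨t₁, ht₁⟩ := Multiset.card_pos_iff_exists_mem.1 (show 0 < (L.filter fun t => t.1 = Kind.V i).card by omega)
        have hm₁ := Multiset.mem_filter.1 ht₁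
        set L₁ := L.erase t₁ with hL₁
        have hc₁ : 2 ≤ (L₁.filter fun t => t.1 = Kind.V i).card := by
          rw [← Multiset.cons_erase hm₁.1, Multiset.filter_cons_of_pos (p := fun t : Tag => t.1 = Kind.V i) _ hm₁.2, Multiset.card_cons, ← hL₁] at hi
          omega
        obtain ⟨t₂, ht₂⟩ := Multiset.card_pos_iff_exists_mem.1 (show 0 < (L₁.filter fun t => t.1 = Kind.V i).card by omega)
        have hm₂ := Multiset.mem_filter.1 ht₂
        set L₂ := L₁.erase t₂ with hL₂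
        have hc₂ : 1 ≤ (L₂.filter fun t => t.1 = Kind.V i).card := by
          rw [← Multiset.cons_erase hm₂.1, Multiset.filter_cons_of_pos (p := fun t : Tag => t.1 = Kind.V i) _ hm₂.2, Multiset.card_cons, ← hL₂] at hc₁
          omega
        obtain ⟨t₃, ht₃⟩ := Multiset.card_pos_iff_exists_mem.1 (show 0 < (L₂.filter fun t => t.1 = Kind.V i).card by omega)
        have hm₃ := Multiset.mem_filter.1 ht₃
        obtain ⟨R, hR⟩ : ∃ R, R = L₂.erase t₃ := ⟨_, rfl⟩
        have hLe : L = t₁ ::ₘ t₂ ::ₘ t₃ ::ₘ R := by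
          rw [hR, Multiset.cons_erase hm₃.1, Multiset.cons_erase hm₂.1, Multiset.cons_erase hm₁.1]
        obtain ⟨C₁, W₁, hC₁, hW₁, o₁, rfl⟩ := hd.extract t₁ hm₁.1
        obtain ⟨C₂, W₂, hC₂, hW₂, o₂, rfl⟩ := hW₁.extract t₂ hm₂.1
        obtain ⟨C₃, W₃, hC₃, hW₃, o₃, rfl⟩ := hW₂.extract t₃ hm₃.1
        rw [← hR] at hW₃
        have e1 : t₁ = (Kind.V i, t₁.2) := Prod.ext hm₁.2 rfl
        have e2 : t₂ = (Kind.V i, t₂.2) := Prod.ext hm₂.2 rfl
        have e3 : t₃ = (Kind.V i, t₃.2) := Prod.ext hm₃.2 rfl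
        obtain ⟨b, b', hb⟩ := T.three_V (e1 ▸ hC₁) (e2 ▸ hC₂) (e3 ▸ hC₃) (o₁.mono le_rfl le_sup_left)
          (o₁.mono le_rfl (le_trans le_sup_left le_sup_right)) (o₂.mono le_rfl le_sup_left)
        have hnew := hb.add hW₃ (((o₁.mono le_rfl (le_trans le_sup_right le_sup_right)).sup_left
          (o₂.mono le_rfl le_sup_right)).sup_left o₃)
        rw [sup_assoc, sup_assoc, Multiset.cons_add, Multiset.singleton_add] at hnew
        refine ihv _ ?_ _ _ hnew rfl rfl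
        rw [← hnv, hLe]
        have v1 : t₁.1.isV = true := by rw [hm₁.2]; rfl
        have v2 : t₂.1.isV = true := by rw [hm₂.2]; rfl
        have v3 : t₃.1.isV = true := by rw [hm₃.2]; rfl
        rw [Multiset.filter_cons_of_neg (p := fun t : Tag => t.1.isV = true) _ (show ¬ (Kind.W (2 * i)).isV = true from Bool.false_ne_true),
          Multiset.filter_cons_of_pos (p := fun t : Tag => t.1.isV = true) _ (show (Kind.V i).isV = true from rfl),
          Multiset.filter_cons_of_pos (p := fun t : Tag => t.1.isV = true) _ v1,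
          Multiset.filter_cons_of_pos (p := fun t : Tag => t.1.isV = true) _ v2,
          Multiset.filter_cons_of_pos (p := fun t : Tag => t.1.isV = true) _ v3]
        simp only [Multiset.card_cons]
        omega

end Sys

end Cfsg.Agent.Small.SpEven
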