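import Mathlib
import Cfsg.Agent.Lib.Small.ClassNumberSp2.Moves

/-!
The weighted number of normal forms.
-/

set_option autoImplicit false
set_option linter.unusedSectionVars false
set_option linter.style.haveILetI false

namespace Cfsg.Agent.Small.SpEven

open Finset

/-- the level of a kind -/
def Kind.lvl : Kind → ℕ
  | .V i => i
  | .W k => k / 2

/-- the weighted number of elements -/
noncomputable def wsum (S : Finset (Multiset Tag)) : ℚ := ∑ L ∈ S, (1 / 2 : ℚ) ^ weight L

theorem weight_add (L M : Multiset Tag) : weight (L + M) = weight L + weight M := by simp [weight]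

theorem weight_cons (t : Tag) (L : Multiset Tag) : weight (t ::ₘ L) = t.1.wt + weight L := by simp [weight]

theorem weight_replicate (m : ℕ) (t : Tag) : weight (Multiset.replicate m t) = m * t.1.wt := by
  simp [weight, Multiset.map_replicate, Multiset.sum_replicate]

theorem weight_mono {L M : Multiset Tag} (h : L ≤ M) : weight L ≤ weight M := by
  obtain ⟨K, rfl⟩ := Multiset.le_iff_exists_add.1 h
  rw [weight_add]; omega

theorem wsum_nonneg (S : Finset (Multiset Tag)) : 0 ≤ wsum S := Finset.sum_nonneg fun _ _ => by positivity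

theorem wsum_mono {S T : Finset (Multiset Tag)} (h : S ⊆ T) : wsum S ≤ wsum T :=
  Finset.sum_le_sum_of_subset_of_nonneg h fun _ _ _ => by positivity

theorem wsum_union (S T : Finset (Multiset Tag)) : wsum (S ∪ T) ≤ wsum S + wsum T := by
  have h := Finset.sum_union_inter (s₁ := S) (s₂ := T) (f := fun L => (1 / 2 : ℚ) ^ weight L)
  have h2 := wsum_nonneg (S ∩ T)
  unfold wsum at *
  linarith

theorem wsum_image2 (S T : Finset (Multiset Tag)) :
    wsum (Finset.image₂ (· + ·) S T) ≤ wsum S * wsum T := by
  rw [Finset.image₂, wsum, wsum, wsum, Finset.sum_mul_sum, ← Finset.sum_product']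
  refine (Finset.sum_image_le_of_nonneg fun L _ => by positivity).trans (le_of_eq ?_)
  exact Finset.sum_congr rfl fun p _ => by simp [Function.uncurry, weight_add, pow_add]

/-- copies of one tag -/
def reps (n : ℕ) (t : Tag) : Finset (Multiset Tag) :=
  (Finset.range (n + 1)).image fun m => Multiset.replicate m t

/-- one marked tag and copies of another -/
def reps1 (n : ℕ) (t₁ t : Tag) : Finset (Multiset Tag) :=
  (Finset.range (n + 1)).image fun m => t₁ ::ₘ Multiset.replicate m t

theorem wsum_reps (n : ℕ) (t : Tag) {w : ℕ} (hw : t.1.wt = w) (hw1 : 1 ≤ w) :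
    wsum (reps n t) ≤ 1 / (1 - (1 / 2 : ℚ) ^ w) := by
  rw [wsum, reps]
  refine (Finset.sum_image_le_of_nonneg fun L _ => by positivity).trans ?_
  have h1 : (1 / 2 : ℚ) ^ w < 1 := pow_lt_one₀ (by norm_num) (by norm_num) (by omega)
  calc ∑ m ∈ Finset.range (n + 1), (1 / 2 : ℚ) ^ weight (Multiset.replicate m t)
      = ∑ m ∈ Finset.range (n + 1), ((1 / 2 : ℚ) ^ w) ^ m :=
        Finset.sum_congr rfl fun m _ => by rw [weight_replicate, hw, ← pow_mul, mul_comm]
    _ ≤ 1 / (1 - (1 / 2 : ℚ) ^ w) := by
        rw [le_div_iff₀ (by linarith), mul_comm, mul_neg_geom_sum]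
        have : (0 : ℚ) ≤ ((1 / 2 : ℚ) ^ w) ^ (n + 1) := by positivity
        linarith

theorem wsum_reps1 (n : ℕ) (t₁ t : Tag) {w : ℕ} (hw₁ : t₁.1.wt = w) (hw : t.1.wt = w) (hw1 : 1 ≤ w) :
    wsum (reps1 n t₁ t) ≤ (1 / 2 : ℚ) ^ w / (1 - (1 / 2 : ℚ) ^ w) := by
  have e : reps1 n t₁ t = (reps n t).image (t₁ ::ₘ ·) := by rw [reps, reps1, Finset.image_image]; rfl
  rw [e, wsum]
  refine (Finset.sum_image_le_of_nonneg fun L _ => by positivity).trans ?_
  have := mul_le_mul_of_nonneg_left (wsum_reps n t hw hw1) (show (0 : ℚ) ≤ (1 / 2) ^ w by positivity)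
  rw [wsum, Finset.mul_sum, mul_one_div] at this
  refine le_of_eq_of_le (Finset.sum_congr rfl fun L _ => ?_) this
  rw [weight_cons, hw₁, pow_add]

/-- the summands of one size two `2 * i`, if a marked one is allowed or not -/
def vOpts (i : ℕ) (flag : Bool) : Finset (Multiset Tag) :=
  if flag = true then {{(Kind.V i, false)}, (Kind.V i, false) ::ₘ {(Kind.V i, false)}}
  else {{(Kind.V i, false)}, (Kind.V i, false) ::ₘ {(Kind.V i, false)}} ∪
    {{(Kind.V i, true)}, (Kind.V i, true) ::ₘ {(Kind.V i, false)}}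

/-- the summands of one level -/
def choices (n i : ℕ) (flag : Bool) : Finset (Multiset Tag) :=
  Finset.image₂ (· + ·) (reps n (Kind.W (2 * i), false))
    ((reps n (Kind.W (2 * i + 1), false) ∪ reps1 n (Kind.W (2 * i + 1), true) (Kind.W (2 * i + 1), false)) ∪
      Finset.image₂ (· + ·) (vOpts i flag) (reps n (Kind.W (2 * i + 1), false)))

/-- whether a marked summand of the next level is excluded -/
noncomputable def linked (i : ℕ) (L : Multiset Tag) : Bool :=
  open scoped Classical in decide (i = 0 ∨ ∃ s ∈ L, s.1 = Kind.V i ∨ s.1 = Kind.W (2 * i + 1))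

/-- normal forms up to a level -/
noncomputable def forms (n : ℕ) : ℕ → Finset (Multiset Tag)
  | 0 => reps n (Kind.W 1, false)
  | i + 1 => (forms n i).biUnion fun L => (choices n (i + 1) (linked i L)).image (L + ·)

/-- the factor of pairs of even size -/
def fE (i : ℕ) : ℚ := 1 / (1 - (1 / 2) ^ (2 * i))

/-- the factor of pairs of odd size -/
def gO (i : ℕ) : ℚ := (1 / 2) ^ (2 * i + 1) / (1 - (1 / 2) ^ (2 * i + 1))

/-- the factor of single blocks -/
def eV (i : ℕ) : ℚ := (1 / 2) ^ i + (1 / 2) ^ (2 * i)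

/-- the bounds: all forms, and those not excluding a mark at the next level -/
def bnd : ℕ → ℚ × ℚ
  | 0 => (2, 0)
  | i + 1 => (fE (i + 1) * ((bnd i).1 * (1 + 2 * gO (i + 1) + eV (i + 1) * (1 + gO (i + 1))) +
      (bnd i).2 * (eV (i + 1) * (1 + gO (i + 1)))), fE (i + 1) * (bnd i).1)

theorem half_pow_lt_one {w : ℕ} (hw : 1 ≤ w) : (1 / 2 : ℚ) ^ w < 1 :=
  pow_lt_one₀ (by norm_num) (by norm_num) (by omega)

theorem fE_nonneg (i : ℕ) : 0 ≤ fE (i + 1) := by
  have := half_pow_lt_one (w := 2 * (i + 1)) (by omega)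
  exact div_nonneg zero_le_one (by linarith)

theorem gO_nonneg (i : ℕ) : 0 ≤ gO i := by
  have := half_pow_lt_one (w := 2 * i + 1) (by omega)
  exact div_nonneg (by positivity) (by linarith)

theorem eV_nonneg (i : ℕ) : 0 ≤ eV i := by unfold eV; positivity

theorem wsum_choices (n i : ℕ) (flag : Bool) :
    wsum (choices n (i + 1) flag) ≤
      fE (i + 1) * (1 + 2 * gO (i + 1) + (if flag = true then 1 else 2) * (eV (i + 1) * (1 + gO (i + 1)))) := by
  set j := i + 1 with hj
  have hg : 1 / (1 - (1 / 2 : ℚ) ^ (2 * j + 1)) = 1 + gO j := by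
    have := half_pow_lt_one (w := 2 * j + 1) (by omega)
    rw [gO, eq_comm, one_add_div (by linarith : (1 : ℚ) - (1 / 2) ^ (2 * j + 1) ≠ 0)]
    ring_nf
  refine (wsum_image2 _ _).trans (mul_le_mul (wsum_reps n _ (w := 2 * j) rfl (by omega)) ?_ (wsum_nonneg _)
    (fE_nonneg i))
  refine (wsum_union _ _).trans ?_
  have hA := (wsum_union (reps n (Kind.W (2 * j + 1), false))
    (reps1 n (Kind.W (2 * j + 1), true) (Kind.W (2 * j + 1), false))).trans
    (add_le_add (wsum_reps n _ (w := 2 * j + 1) rfl (by omega))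
      (wsum_reps1 n _ _ (w := 2 * j + 1) rfl rfl (by omega)))
  have hpair : ∀ b : Bool,
      wsum {{(Kind.V j, b)}, (Kind.V j, b) ::ₘ {(Kind.V j, false)}} ≤ eV j := by
    intro b
    refine le_of_eq ?_
    have hne : ({(Kind.V j, b)} : Multiset Tag) ≠ (Kind.V j, b) ::ₘ {(Kind.V j, false)} := fun h => by
      have := congrArg Multiset.card h
      simp at this
    rw [wsum, Finset.sum_pair hne, eV, weight_cons]
    simp [weight, Kind.wt, two_mul]
  have hV : wsum (vOpts j flag) ≤ (if flag = true then 1 else 2) * eV j := by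
    cases flag with
    | true => simpa [vOpts] using hpair false
    | false =>
      simp only [vOpts, Bool.false_eq_true, if_false]
      exact (wsum_union _ _).trans (le_of_le_of_eq (add_le_add (hpair false) (hpair true)) (by ring))
  have hB := (wsum_image2 (vOpts j flag) (reps n (Kind.W (2 * j + 1), false))).trans
    (mul_le_mul hV (wsum_reps n _ (w := 2 * j + 1) rfl (by omega)) (wsum_nonneg _)
      (mul_nonneg (by split_ifs <;> norm_num) (eV_nonneg j)))
  refine (add_le_add hA hB).trans (le_of_eq ?_)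
  rw [hg, show (1 / 2 : ℚ) ^ (2 * j + 1) / (1 - (1 / 2 : ℚ) ^ (2 * j + 1)) = gO j from rfl]
  ring

theorem forms_bound (n : ℕ) : ∀ i, wsum (forms n i) ≤ (bnd i).1 ∧
    wsum ((forms n i).filter fun L => linked i L = false) ≤ (bnd i).2 := by
  intro i
  induction i with
  | zero =>
    refine ⟨(wsum_reps n _ (w := 1) rfl le_rfl).trans (by norm_num [bnd]), ?_⟩
    rw [Finset.filter_false_of_mem fun L _ => by simp [linked]]
    simp [wsum, bnd]
  | succ i ih =>
    obtain ⟨h1, h2⟩ := ih
    have he := mul_nonneg (eV_nonneg (i + 1)) (show (0 : ℚ) ≤ 1 + gO (i + 1) by linarith [gO_nonneg (i + 1)])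
    set A := 1 + 2 * gO (i + 1) + eV (i + 1) * (1 + gO (i + 1)) with hA
    set E := eV (i + 1) * (1 + gO (i + 1)) with hE
    have hsum : ∀ (S : Finset (Multiset Tag)) (C : Multiset Tag → Finset (Multiset Tag)),
        wsum (S.biUnion fun L => (C L).image (L + ·)) ≤ ∑ L ∈ S, (1 / 2 : ℚ) ^ weight L * wsum (C L) := by
      intro S C
      induction S using Finset.induction_on with
      | empty => simp [wsum]
      | @insert L S hL ihS =>
        rw [Finset.biUnion_insert, Finset.sum_insert hL]
        refine (wsum_union _ _).trans (add_le_add ?_ ihS)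
        rw [wsum, wsum, Finset.mul_sum]
        refine (Finset.sum_image_le_of_nonneg fun M _ => by positivity).trans (le_of_eq ?_)
        exact Finset.sum_congr rfl fun M _ => by rw [weight_add, pow_add]
    constructor
    · refine (hsum _ _).trans ?_
      calc ∑ L ∈ forms n i, (1 / 2 : ℚ) ^ weight L * wsum (choices n (i + 1) (linked i L))
          ≤ ∑ L ∈ forms n i, (1 / 2 : ℚ) ^ weight L *
              (fE (i + 1) * (A + if linked i L = false then E else 0)) := by
            refine Finset.sum_le_sum fun L _ => mul_le_mul_of_nonneg_left ?_ (by positivity)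
            refine (wsum_choices n i _).trans (le_of_eq ?_)
            cases linked i L <;> simp [hA, hE]; ring_nf; simp
        _ = fE (i + 1) * (wsum (forms n i) * A + wsum ((forms n i).filter fun L => linked i L = false) * E) := by
            rw [wsum, wsum, Finset.sum_filter, Finset.sum_mul, Finset.sum_mul, ← Finset.sum_add_distrib,
              Finset.mul_sum]
            refine Finset.sum_congr rfl fun L _ => ?_
            split_ifs <;> ring
        _ ≤ fE (i + 1) * ((bnd i).1 * A + (bnd i).2 * E) := by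
            refine mul_le_mul_of_nonneg_left (add_le_add (mul_le_mul_of_nonneg_right h1 ?_)
              (mul_le_mul_of_nonneg_right h2 he)) (fE_nonneg i)
            rw [hA]; linarith [gO_nonneg (i + 1), he]
        _ = _ := rfl
    · have hsub : ((forms n (i + 1)).filter fun L => linked (i + 1) L = false) ⊆
          Finset.image₂ (· + ·) (forms n i) (reps n (Kind.W (2 * (i + 1)), false)) := by
        intro L hL
        obtain ⟨hL, hlk⟩ := Finset.mem_filter.1 hL
        simp only [forms, Finset.mem_biUnion, Finset.mem_image] at hL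
        obtain ⟨L', hL', M, hM, rfl⟩ := hL
        simp only [linked, decide_eq_false_iff_not, Nat.succ_ne_zero, false_or, not_exists, not_and] at hlk
        simp only [choices, Finset.mem_image₂] at hM
        obtain ⟨a, ha, b, hb, rfl⟩ := hM
        refine Finset.mem_image₂.2 ⟨L', hL', a, ha, ?_⟩
        suffices hb0 : b = 0 by rw [hb0, add_zero]
        refine Multiset.eq_zero_of_forall_notMem fun s hs => hlk s (by simp [hs]) ?_
        simp only [Finset.mem_union, Finset.mem_image₂, reps, reps1, Finset.mem_image] at hb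
        rcases hb with (⟨m, -, rfl⟩ | ⟨m, -, rfl⟩) | ⟨v, hv, w, ⟨m, -, rfl⟩, rfl⟩
        · exact Or.inr (by rw [Multiset.eq_of_mem_replicate hs])
        · rcases Multiset.mem_cons.1 hs with rfl | hs
          · exact Or.inr rfl
          · exact Or.inr (by rw [Multiset.eq_of_mem_replicate hs])
        · rcases Multiset.mem_add.1 hs with hs | hs
          · left
            unfold vOpts at hv
            split_ifs at hv <;>
              simp only [Finset.mem_union, Finset.mem_insert, Finset.mem_singleton] at hv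
            · rcases hv with rfl | rfl <;> simp at hs <;> simp [hs]
            · rcases hv with (rfl | rfl) | (rfl | rfl) <;> simp at hs <;>
                first | simp [hs] | (rcases hs with rfl | rfl <;> rfl)
          · exact Or.inr (by rw [Multiset.eq_of_mem_replicate hs])
      refine ((wsum_mono hsub).trans (wsum_image2 _ _)).trans ?_
      show _ ≤ fE (i + 1) * (bnd i).1
      rw [mul_comm (fE (i + 1))]
      exact mul_le_mul h1 (wsum_reps n _ (w := 2 * (i + 1)) rfl (by omega)) (wsum_nonneg _)
        ((wsum_nonneg _).trans h1)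

theorem nice_of_le {L M : Multiset Tag} (h : L ≤ M) (hM : Nice M) : Nice L :=
  ⟨fun i => (Multiset.card_le_card (Multiset.filter_le_filter _ h)).trans (hM.1 i),
    fun t ht htt s hs => hM.2 t (Multiset.mem_of_le h ht) htt s
      (Multiset.mem_of_le (Multiset.erase_le_erase _ h) hs)⟩

theorem eq_reps {n : ℕ} {K : Kind} {L : Multiset Tag} (hK : 1 ≤ K.wt) (hL : weight L ≤ n)
    (h : ∀ s ∈ L, s = (K, false)) : L ∈ reps n (K, false) := by
  have e := Multiset.eq_replicate_card.2 h
  refine Finset.mem_image.2 ⟨L.card, Finset.mem_range.2 ?_, e.symm⟩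
  rw [e, weight_replicate] at hL
  have := Nat.le_mul_of_pos_right L.card hK
  simp only at hL
  omega

theorem mem_forms {n : ℕ} : ∀ (i : ℕ) {L : Multiset Tag}, Nice L → (∀ t ∈ L, Wf t) → weight L ≤ n →
    (∀ t ∈ L, t.1.lvl ≤ i) → L ∈ forms n i := by
  intro i
  induction i with
  | zero =>
    intro L _ hwf hw hlv
    refine eq_reps (K := Kind.W 1) le_rfl hw fun s hs => ?_
    obtain ⟨K | K, b⟩ := s
    · exact absurd (hwf _ hs).1 (by have h : K ≤ 0 := hlv _ hs; omega)
    · have h : K / 2 ≤ 0 := hlv _ hs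
      obtain ⟨h1, h2⟩ := hwf _ hs
      obtain rfl : K = 1 := by omega
      cases b with
      | false => rfl
      | true => obtain ⟨q, hq⟩ := h2 rfl; omega
  | succ i ih =>
    intro L hN hwf hw hlv
    classical
    set L' := L.filter fun t => t.1.lvl ≤ i with hL'
    set M := L.filter fun t => ¬ t.1.lvl ≤ i with hMdef
    have hsplit : L' + M = L := Multiset.filter_add_not _ L
    have hle : L' ≤ L := Multiset.filter_le _ _
    simp only [forms, Finset.mem_biUnion, Finset.mem_image]
    refine ⟨L', ih (nice_of_le hle hN) (fun t ht => hwf t (Multiset.mem_of_le hle ht))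
      ((weight_mono hle).trans hw) (fun t ht => (Multiset.mem_filter.1 ht).2), M, ?_, hsplit⟩
    set E := M.filter (fun t => t.1 = Kind.W (2 * (i + 1))) with hE
    set R := M.filter (fun t => ¬ t.1 = Kind.W (2 * (i + 1))) with hR
    set P := R.filter (fun t => t.1 = Kind.V (i + 1)) with hP
    set O := R.filter (fun t => ¬ t.1 = Kind.V (i + 1)) with hO
    have hMle : M ≤ L := Multiset.filter_le _ _
    have hkind : ∀ s ∈ M, s.1 = Kind.V (i + 1) ∨ s.1 = Kind.W (2 * (i + 1)) ∨ s.1 = Kind.W (2 * (i + 1) + 1) := by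
      intro s hs
      obtain ⟨hsL, hsi⟩ := Multiset.mem_filter.1 hs
      have h2 := hlv s hsL
      rcases s with ⟨K | K, b⟩ <;> simp only [Kind.lvl, not_le] at hsi h2
      · exact Or.inl (by simp only; congr 1; omega)
      · rcases Nat.mod_two_eq_zero_or_one K with h | h
        · exact Or.inr (Or.inl (by simp only; congr 1; omega))
        · exact Or.inr (Or.inr (by simp only; congr 1; omega))
    have hwL : ∀ {X : Multiset Tag}, X ≤ M → weight X ≤ n := fun hX => (weight_mono (hX.trans hMle)).trans hw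
    have hRle : R ≤ M := Multiset.filter_le _ _
    have hPle : P ≤ R := Multiset.filter_le _ _
    have hOle : O ≤ R := Multiset.filter_le _ _
    have memL : ∀ {X : Multiset Tag} {s : Tag}, X ≤ M → s ∈ X → s ∈ L := fun hX hs =>
      Multiset.mem_of_le (hX.trans hMle) hs
    have hOk : ∀ s ∈ O, s.1 = Kind.W (2 * (i + 1) + 1) := by
      intro s hs
      obtain ⟨hsR, hsV⟩ := Multiset.mem_filter.1 hs
      obtain ⟨hsM, hsW⟩ := Multiset.mem_filter.1 hsR
      exact ((hkind s hsM).resolve_left hsV).resolve_left hsW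
    have hEmem : E ∈ reps n (Kind.W (2 * (i + 1)), false) := by
      refine eq_reps (K := Kind.W (2 * (i + 1))) (by simp only [Kind.wt]; omega)
        (hwL (Multiset.filter_le _ _)) fun s hs => ?_
      obtain ⟨hsM, hsW⟩ := Multiset.mem_filter.1 hs
      obtain ⟨K, b⟩ := s
      obtain rfl : K = Kind.W (2 * (i + 1)) := hsW
      cases b with
      | false => rfl
      | true => obtain ⟨q, hq⟩ := (hwf _ (Multiset.mem_of_le hMle hsM)).2 rfl; omega
    have hlkW : Lk (Kind.W (2 * (i + 1) + 1)) (Kind.W (2 * (i + 1) + 1)) := ⟨rfl, i, by omega⟩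
    have hlkWV : Lk (Kind.W (2 * (i + 1) + 1)) (Kind.V (i + 1)) := ⟨i, by omega, rfl⟩
    have hOfalse : P ≠ 0 → O ∈ reps n (Kind.W (2 * (i + 1) + 1), false) := by
      intro hP0
      refine eq_reps (K := Kind.W (2 * (i + 1) + 1)) (by simp only [Kind.wt]; omega) (hwL (hOle.trans hRle))
        fun s hs => Prod.ext (hOk s hs) ?_
      obtain ⟨p, hp⟩ := Multiset.exists_mem_of_ne_zero hP0
      by_contra hb
      have hb' : s.2 = true := by simpa using hb
      have hpk : p.1 = Kind.V (i + 1) := (Multiset.mem_filter.1 hp).2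
      have hne : p ≠ s := fun h => by
        have h1 := hOk s hs
        rw [← h, hpk] at h1
        exact Kind.noConfusion h1
      have := (hN.2 s (memL (hOle.trans hRle) hs) hb' p
        ((Multiset.mem_erase_of_ne hne).2 (memL (hPle.trans hRle) hp))
        (by rw [hOk s hs, hpk]; exact hlkWV)).1
      rw [hOk s hs, hpk] at this
      exact Kind.noConfusion this
    have hPO : M = E + (P + O) := by
      rw [hP, hO, Multiset.filter_add_not, hE, hR, Multiset.filter_add_not]
    rw [choices, hPO]
    refine Finset.mem_image₂.2 ⟨E, hEmem, P + O, ?_, rfl⟩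
    simp only [Finset.mem_union]
    by_cases hP0 : P = 0
    · left
      rw [hP0, zero_add]
      by_cases hT : (Kind.W (2 * (i + 1) + 1), true) ∈ O
      · right
        have hrest : O.erase (Kind.W (2 * (i + 1) + 1), true) ∈ reps n (Kind.W (2 * (i + 1) + 1), false) := by
          refine eq_reps (K := Kind.W (2 * (i + 1) + 1)) (by simp only [Kind.wt]; omega)
            (hwL ((Multiset.erase_le _ _).trans (hOle.trans hRle))) fun s hs => ?_
          have hsO := hOk s (Multiset.mem_of_mem_erase hs)
          refine Prod.ext hsO (hN.2 _ (memL (hOle.trans hRle) hT) rfl s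
            (Multiset.mem_of_le (Multiset.erase_le_erase _ ((hOle.trans hRle).trans hMle)) hs) ?_).2
          rw [hsO]; exact hlkW
        obtain ⟨m, hm, hme⟩ := Finset.mem_image.1 hrest
        exact Finset.mem_image.2 ⟨m, hm, by rw [hme, Multiset.cons_erase hT]⟩
      · left
        refine eq_reps (K := Kind.W (2 * (i + 1) + 1)) (by simp only [Kind.wt]; omega) (hwL (hOle.trans hRle))
          fun s hs => Prod.ext (hOk s hs) ?_
        by_contra hb
        refine hT ?_
        rwa [show s = (Kind.W (2 * (i + 1) + 1), true) from Prod.ext (hOk s hs) (by simpa using hb)] at hs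
    · right
      refine Finset.mem_image₂.2 ⟨P, ?_, O, hOfalse hP0, rfl⟩
      have hPk : ∀ s ∈ P, s.1 = Kind.V (i + 1) := fun s hs => (Multiset.mem_filter.1 hs).2
      have hcard : P.card ≤ 2 := le_trans
        (Multiset.card_le_card (by
          rw [hP]
          exact Multiset.filter_le_filter _ (hRle.trans hMle))) (hN.1 (i + 1))
      have htrue : ∀ s ∈ P, s.2 = true → linked i L' = false := by
        intro s hs hst
        by_contra hl
        have hl' : linked i L' = true := by simpa using hl
        simp only [linked, decide_eq_true_eq] at hl'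
        have hsL := memL (hPle.trans hRle) hs
        have h2i : 2 ≤ i + 1 := by
          have h := hwf s hsL
          obtain ⟨K, b⟩ := s
          obtain rfl : K = Kind.V (i + 1) := hPk _ hs
          exact h.2 hst
        rcases hl' with h0 | ⟨p, hp, hpk⟩
        · omega
        · have hne : p ≠ s := fun h => by
            have h1 := (Multiset.mem_filter.1 hp).2
            rw [h, hPk s hs] at h1
            simp [Kind.lvl] at h1
          have h3 := (hN.2 s hsL hst p ((Multiset.mem_erase_of_ne hne).2 (Multiset.mem_of_le hle hp))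
            (by rw [hPk s hs]; rcases hpk with h | h <;> rw [h] <;> refine ⟨h2i, ?_⟩ <;> omega)).1
          have h4 := (Multiset.mem_filter.1 hp).2
          rw [h3, hPk s hs] at h4
          simp [Kind.lvl] at h4
      have hor : ∀ s ∈ P, s = (Kind.V (i + 1), false) ∨ s = (Kind.V (i + 1), true) := by
        intro s hs
        obtain ⟨K, b⟩ := s
        obtain rfl : K = Kind.V (i + 1) := hPk _ hs
        cases b <;> simp
      have hpos : 0 < P.card := Multiset.card_pos.2 hP0
      have fin : ∀ b : Bool, (b = true → linked i L' = false) →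
          ({(Kind.V (i + 1), b)} : Multiset Tag) ∈ vOpts (i + 1) (linked i L') ∧
          (Kind.V (i + 1), b) ::ₘ {(Kind.V (i + 1), false)} ∈ vOpts (i + 1) (linked i L') := by
        intro b hb
        cases b with
        | false => cases linked i L' <;> simp [vOpts]
        | true => simp [vOpts, hb rfl]
      rcases (show P.card = 1 ∨ P.card = 2 by omega) with h1 | h2
      · obtain ⟨s, hs⟩ := Multiset.card_eq_one.1 h1
        rw [hs]
        have hsP : s ∈ P := by rw [hs]; simp
        rcases hor s hsP with rfl | rfl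
        · exact (fin false (by simp)).1
        · exact (fin true fun _ => htrue _ hsP rfl).1
      · obtain ⟨s, t, hst⟩ := Multiset.card_eq_two.1 h2
        have hsP : s ∈ P := by rw [hst]; simp
        have htP : t ∈ P := by rw [hst]; simp
        rw [hst]
        rcases hor s hsP with rfl | rfl <;> rcases hor t htP with rfl | rfl
        · exact (fin false (by simp)).2
        · rw [Multiset.pair_comm]; exact (fin true fun _ => htrue _ htP rfl).2
        · exact (fin true fun _ => htrue _ hsP rfl).2
        · refine absurd (hN.2 _ (memL (hPle.trans hRle) hsP) rfl (Kind.V (i + 1), true)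
            (Multiset.mem_of_le (Multiset.erase_le_erase _ ((hPle.trans hRle).trans hMle)) (by rw [hst]; simp))
            ⟨?_, Or.inl rfl⟩).2 (by simp)
          have := hwf _ (memL (hPle.trans hRle) hsP)
          exact this.2 rfl

theorem bnd_facts : ∀ i, (bnd i).2 ≤ (bnd i).1 ∧ 0 ≤ (bnd i).2
  | 0 => by norm_num [bnd]
  | i + 1 => by
    obtain ⟨h1, h2⟩ := bnd_facts i
    have hT : 0 ≤ (bnd i).1 := h2.trans h1
    have hg := gO_nonneg (i + 1)
    have he := mul_nonneg (eV_nonneg (i + 1)) (show (0 : ℚ) ≤ 1 + gO (i + 1) by linarith)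
    refine ⟨mul_le_mul_of_nonneg_left ?_ (fE_nonneg i), mul_nonneg (fE_nonneg i) hT⟩
    nlinarith [mul_nonneg hT hg, mul_nonneg hT he, mul_nonneg h2 he]

theorem bnd_step {i : ℕ} (hi : 13 ≤ i) (h : (bnd i).1 ≤ 76 / 5 * (1 - 3 * (1 / 2) ^ i)) :
    (bnd (i + 1)).1 ≤ 76 / 5 * (1 - 3 * (1 / 2) ^ (i + 1)) := by
  obtain ⟨h1, h2⟩ := bnd_facts i
  set r : ℚ := (1 / 2) ^ (i + 1) with hr
  have hr0 : 0 < r := by positivity
  have hri : (1 / 2 : ℚ) ^ i = 2 * r := by rw [hr, pow_succ]; ring
  have hle : r ≤ 1 / 16384 := by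
    calc r ≤ (1 / 2 : ℚ) ^ 14 := pow_le_pow_of_le_one (by norm_num) (by norm_num) (by omega)
      _ = _ := by norm_num
  have hr2 : r ^ 2 ≤ r * (1 / 16384) := by rw [sq]; exact mul_le_mul_of_nonneg_left hle hr0.le
  have e1 : (1 / 2 : ℚ) ^ (2 * (i + 1)) = r ^ 2 := by rw [hr, ← pow_mul, mul_comm]
  have e2 : (1 / 2 : ℚ) ^ (2 * (i + 1) + 1) = r ^ 2 / 2 := by rw [pow_succ, e1]; ring
  have hf : fE (i + 1) ≤ 1 + r / 4096 := by
    rw [fE, e1, div_le_iff₀ (by nlinarith)]; nlinarith
  have hg : gO (i + 1) ≤ r / 8192 := by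
    rw [gO, e2, div_le_iff₀ (by nlinarith)]; nlinarith
  have he : eV (i + 1) ≤ r * (1 + 1 / 16384) := by rw [eV, e1, ← hr]; linarith
  have hg0 := gO_nonneg (i + 1)
  have he0 := eV_nonneg (i + 1)
  have hf0 := fE_nonneg i
  have hT : 0 ≤ (bnd i).1 := h2.trans h1
  have hX : eV (i + 1) * (1 + gO (i + 1)) ≤ r * (1 + 1 / 1024) := by
    refine (mul_le_mul he (add_le_add le_rfl hg) (by linarith) (by positivity)).trans ?_
    nlinarith
  set X := eV (i + 1) * (1 + gO (i + 1)) with hXdef
  have hX0 : 0 ≤ X := mul_nonneg he0 (by linarith)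
  show fE (i + 1) * ((bnd i).1 * (1 + 2 * gO (i + 1) + X) + (bnd i).2 * X) ≤ _
  calc fE (i + 1) * ((bnd i).1 * (1 + 2 * gO (i + 1) + X) + (bnd i).2 * X)
      ≤ fE (i + 1) * ((bnd i).1 * (1 + 2 * gO (i + 1) + 2 * X)) := by
        refine mul_le_mul_of_nonneg_left ?_ hf0
        nlinarith [mul_le_mul_of_nonneg_right h1 hX0]
    _ ≤ (1 + r / 4096) * ((76 / 5 * (1 - 3 * (2 * r))) * (1 + r * (2 + 1 / 256))) := by
        refine mul_le_mul hf (mul_le_mul (hri ▸ h) (by linarith) (by linarith) ((hri ▸ hT.trans h))) ?_ (by linarith)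
        exact mul_nonneg hT (by linarith)
    _ ≤ _ := by
        have h3 : (1 + r * (2 + 1 / 256)) * (1 + r / 4096) ≤ 1 + r * (2 + 1 / 64) := by nlinarith
        have h5 : 0 ≤ 1 - 3 * (2 * r) := by linarith
        have h4 := mul_le_mul_of_nonneg_left h3 (show (0 : ℚ) ≤ 76 / 5 * (1 - 3 * (2 * r)) by linarith)
        nlinarith

theorem bnd_base : (bnd 13).1 ≤ 76 / 5 * (1 - 3 * (1 / 2) ^ 13) := by
  norm_num [bnd, fE, gO, eV]

theorem bnd_le (i : ℕ) : (bnd i).1 ≤ 76 / 5 := by
  have hmono : ∀ i, (bnd i).1 ≤ (bnd (i + 1)).1 := by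
    intro i
    obtain ⟨h1, h2⟩ := bnd_facts i
    have hg := gO_nonneg (i + 1)
    have he := mul_nonneg (eV_nonneg (i + 1)) (show (0 : ℚ) ≤ 1 + gO (i + 1) by linarith)
    have hf : 1 ≤ fE (i + 1) := by
      have := half_pow_lt_one (w := 2 * (i + 1)) (by omega)
      have : (0 : ℚ) ≤ (1 / 2) ^ (2 * (i + 1)) := by positivity
      rw [fE, le_div_iff₀ (by linarith)]; linarith
    have hT : 0 ≤ (bnd i).1 := h2.trans h1
    show _ ≤ fE (i + 1) * _
    nlinarith [mul_nonneg hT hg, mul_nonneg hT he, mul_nonneg h2 he]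
  have hbig : ∀ j, (bnd (13 + j)).1 ≤ 76 / 5 * (1 - 3 * (1 / 2) ^ (13 + j)) := by
    intro j
    induction j with
    | zero => exact bnd_base
    | succ j ih => exact bnd_step (Nat.le_add_right 13 j) ih
  refine ((monotone_nat_of_le_succ (f := fun i => (bnd i).1) hmono) (Nat.le_add_left i 13)).trans
    ((hbig i).trans ?_)
  have : (0 : ℚ) ≤ (1 / 2) ^ (13 + i) := by positivity
  linarith

/-- A finite set with all normal forms of weight at most `n` and total weight at most 15.2. -/
theorem exists_forms (n : ℕ) : ∃ S : Finset (Multiset Tag),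
    (∀ L, Nice L → (∀ t ∈ L, Wf t) → weight L ≤ n → L ∈ S) ∧ wsum S ≤ 76 / 5 := by
  refine ⟨forms n n, fun L hN hwf hw => mem_forms n hN hwf hw fun t ht => ?_,
    (forms_bound n n).1.trans (bnd_le n)⟩
  have : t.1.wt ≤ weight L := Multiset.le_sum_of_mem (Multiset.mem_map_of_mem (fun t : Tag => t.1.wt) ht)
  rcases t with ⟨K | K, b⟩ <;> simp only [Kind.lvl, Kind.wt] at * <;> omega

end Cfsg.Agent.Small.SpEven
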