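import Mathlib
import Cfsg.Agent.Lib.Small.ClassNumber.Inv
import Cfsg.Agent.Lib.Small.ClassNumberU.Dual
import Cfsg.Agent.Lib.Small.ClassNumberU.Count
import Cfsg.Agent.Lib.Small.ClassNumberSp2.NonUnip

/-!
The parameters of an isometry without fixed vectors.
-/

set_option autoImplicit false
set_option linter.unusedSectionVars false
set_option linter.style.haveILetI false

namespace Cfsg.Agent.Small.SpEven

open Polynomial Cfsg.Agent.Small.ClassNumber Cfsg.Agent.Small.ClassNumberU

attribute [local instance] starRingOfComm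

universe u v w

variable {F : Type u} [Field F] [Fintype F] [CharP F 2]

section half

variable {G : F[X]}

theorem coeff_sym (hm : G.Monic) (h0 : G.coeff 0 ≠ 0) (hd : dual G = G) :
    G.coeff 0 = 1 ∧ ∀ i ≤ G.natDegree, G.coeff i = G.coeff (G.natDegree - i) := by
  have h : ∀ i ≤ G.natDegree, G.coeff i = (G.coeff 0)⁻¹ * G.coeff (G.natDegree - i) := fun i hi => by
    conv_lhs => rw [← hd]
    rw [coeff_dual G hi]
    rfl
  have h1 : G.coeff 0 = 1 := by
    have h2 := h 0 (Nat.zero_le _)
    rw [Nat.sub_zero, hm.coeff_natDegree, mul_one] at h2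
    have h3 : (G.coeff 0 + 1) * (G.coeff 0 + 1) = 0 := by
      have e : G.coeff 0 * G.coeff 0 = 1 := by
        conv_lhs => arg 1; rw [h2]
        exact inv_mul_cancel₀ h0
      linear_combination e + (G.coeff 0 + 1) * CharTwo.two_eq_zero (R := F)
    exact CharTwo.add_eq_zero.1 ((mul_eq_zero.1 h3).elim id id)
  exact ⟨h1, fun i hi => by rw [h i hi, h1, inv_one, one_mul]⟩

theorem middle (hm : G.Monic) (h0 : G.coeff 0 ≠ 0) (hd : dual G = G) (h1 : G.eval 1 ≠ 0) :
    ∃ e, G.natDegree = 2 * e ∧ G.coeff e ≠ 0 := by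
  set d := G.natDegree with hdd
  have hs := (coeff_sym hm h0 hd).2
  have hsum : G.eval 1 = ∑ i ∈ Finset.range (d + 1), G.coeff i := by
    rw [eval_eq_sum_range]
    simp [hdd]
  rw [hsum, ← Finset.sum_filter_add_sum_filter_not _ (fun i => 2 * i = d)] at h1
  have hz : ∑ i ∈ (Finset.range (d + 1)).filter (fun i => ¬ 2 * i = d), G.coeff i = 0 := by
    refine Finset.sum_involution (fun i _ => d - i) (fun a ha => ?_) (fun a ha _ => ?_) (fun a ha => ?_)
      (fun a ha => ?_)
    · rw [Finset.mem_filter, Finset.mem_range] at ha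
      rw [← hs a (by omega), CharTwo.add_self_eq_zero]
    · rw [Finset.mem_filter, Finset.mem_range] at ha
      omega
    · rw [Finset.mem_filter, Finset.mem_range] at *
      omega
    · rw [Finset.mem_filter, Finset.mem_range] at ha
      omega
  rw [hz, add_zero] at h1
  obtain ⟨e, he, hne⟩ := Finset.exists_ne_zero_of_sum_ne_zero h1
  exact ⟨e, (Finset.mem_filter.1 he).2.symm, hne⟩

/-- the polynomial of the lower half of the coefficients -/
noncomputable def halfPoly (G : F[X]) : F[X] :=
  X ^ (G.natDegree / 2) + ∑ i ∈ Finset.range (G.natDegree / 2), C (G.coeff (G.natDegree / 2 - i)) * X ^ i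

theorem halfPoly_spec (G : F[X]) :
    (halfPoly G).Monic ∧ (halfPoly G).natDegree = G.natDegree / 2 ∧
      ∀ i < G.natDegree / 2, (halfPoly G).coeff i = G.coeff (G.natDegree / 2 - i) := by
  set e := G.natDegree / 2 with he
  have hlow : (∑ i ∈ Finset.range e, C (G.coeff (e - i)) * X ^ i).degree < (e : WithBot ℕ) := by
    refine lt_of_le_of_lt (degree_sum_le _ _) ((Finset.sup_lt_iff (WithBot.bot_lt_coe e)).2 fun i hi => ?_)
    exact lt_of_le_of_lt (degree_C_mul_X_pow_le _ _) (WithBot.coe_lt_coe.2 (Finset.mem_range.1 hi))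
  refine ⟨monic_X_pow_add hlow, natDegree_eq_of_degree_eq_some ?_, fun i hi => ?_⟩
  · rw [halfPoly, ← he, degree_add_eq_left_of_degree_lt (by rwa [degree_X_pow]), degree_X_pow]
  · rw [halfPoly, ← he, coeff_add, coeff_X_pow, if_neg (by omega), zero_add, finsetSum_coeff,
      Finset.sum_eq_single i]
    · rw [coeff_C_mul_X_pow, if_pos rfl]
    · intro j _ hj; rw [coeff_C_mul_X_pow, if_neg (Ne.symm hj)]
    · intro h; exact absurd (Finset.mem_range.2 hi) h

theorem halfPoly_coeff_zero (hm : G.Monic) (h0 : G.coeff 0 ≠ 0) (hd : dual G = G) (h1 : G.eval 1 ≠ 0) :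
    (halfPoly G).coeff 0 ≠ 0 := by
  obtain ⟨e, he, hne⟩ := middle hm h0 hd h1
  obtain ⟨hm', hdeg, hc⟩ := halfPoly_spec G
  rcases Nat.eq_zero_or_pos e with rfl | he0
  · have h : (halfPoly G).coeff (halfPoly G).natDegree = 1 := hm'.coeff_natDegree
    rw [hdeg, show G.natDegree / 2 = 0 by omega] at h
    rw [h]; exact one_ne_zero
  · rw [hc 0 (by omega), Nat.sub_zero, show G.natDegree / 2 = e by omega]
    exact hne

theorem halfPoly_injective {G H : F[X]} (hm : G.Monic) (h0 : G.coeff 0 ≠ 0) (hd : dual G = G) (h1 : G.eval 1 ≠ 0)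
    (hm' : H.Monic) (h0' : H.coeff 0 ≠ 0) (hd' : dual H = H) (h1' : H.eval 1 ≠ 0)
    (h : halfPoly G = halfPoly H) : G = H := by
  obtain ⟨e, he, -⟩ := middle hm h0 hd h1
  obtain ⟨e', he', -⟩ := middle hm' h0' hd' h1'
  obtain ⟨-, hdG, hcG⟩ := halfPoly_spec G
  obtain ⟨-, hdH, hcH⟩ := halfPoly_spec H
  have hee : e = e' := by
    have := congrArg natDegree h
    omega
  subst hee
  obtain ⟨hG1, hGs⟩ := coeff_sym hm h0 hd
  obtain ⟨hH1, hHs⟩ := coeff_sym hm' h0' hd'
  have hlow : ∀ i ≤ e, G.coeff i = H.coeff i := by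
    intro i hi
    rcases Nat.eq_zero_or_pos i with rfl | hi0
    · rw [hG1, hH1]
    · have a := hcG (e - i) (by omega)
      have b := hcH (e - i) (by omega)
      rw [show G.natDegree / 2 = e by omega, show e - (e - i) = i by omega] at a
      rw [show H.natDegree / 2 = e by omega, show e - (e - i) = i by omega] at b
      rw [← a, h, b]
  refine Polynomial.ext fun i => ?_
  rcases Nat.lt_or_ge (2 * e) i with hlt | hle
  · rw [coeff_eq_zero_of_natDegree_lt (by omega), coeff_eq_zero_of_natDegree_lt (by omega)]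
  rcases Nat.lt_or_ge e i with hlt' | hle'
  · rw [hGs i (by omega), hHs i (by omega), he, he', hlow _ (by omega)]
  · exact hlow i hle'

end half

namespace Sys

variable {V : Type v} [AddCommGroup V] [Module F V] [FiniteDimensional F V] (T : Sys F V)

theorem adj_aeval (P : F[X]) : T.Adj (aeval T.U P) (aeval T.Ui P) := by
  induction P using Polynomial.induction_on' with
  | add p r hp hr => rw [map_add, map_add]; exact hp.add hr
  | monomial i a =>
    intro x y
    have h := (show T.Adj T.U T.Ui from T.U_adj).pow i x y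
    simp only [aeval_monomial, ← Algebra.smul_def, LinearMap.smul_apply, map_smul, smul_eq_mul, h]

theorem finrank_ker_adj {A A' : Module.End F V} (h : T.Adj A A') :
    Module.finrank F (LinearMap.ker A') = Module.finrank F (LinearMap.ker A) := by
  have hinj : Function.Injective T.B.flip := (injective_iff_map_eq_zero T.B.flip).2 fun x hx =>
    T.nondeg x fun y => by
      rw [T.B_symm]
      exact LinearMap.congr_fun hx y
  let Φ : V ≃ₗ[F] Module.Dual F V := LinearEquiv.ofInjectiveOfFinrankEq T.B.flip hinj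
    (Subspace.dual_finrank_eq).symm
  have hcomm : A.dualMap ∘ₗ Φ.toLinearMap = Φ.toLinearMap ∘ₗ A' := by
    ext c a
    exact h a c
  have hr : Module.finrank F (LinearMap.range A') = Module.finrank F (LinearMap.range A) := by
    have e1 : Module.finrank F (LinearMap.range (Φ.toLinearMap ∘ₗ A')) = Module.finrank F (LinearMap.range A') := by
      rw [LinearMap.range_comp]
      exact LinearEquiv.finrank_map_eq Φ _
    rw [← e1, ← hcomm, LinearMap.range_comp, LinearEquiv.range, Submodule.map_top,
      LinearMap.finrank_range_dualMap_eq_finrank_range]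
  have h1 := LinearMap.finrank_range_add_finrank_ker A
  have h2 := LinearMap.finrank_range_add_finrank_ker A'
  omega

theorem finrank_ker_dual' {P : F[X]} (h0 : P.coeff 0 ≠ 0) :
    Module.finrank F (LinearMap.ker (aeval T.U (dual P))) = Module.finrank F (LinearMap.ker (aeval T.U P)) := by
  have hc : (star (P.coeff 0))⁻¹ ≠ 0 := inv_ne_zero (star_ne_zero.2 h0)
  have e1 : dual P = C (star (P.coeff 0))⁻¹ * P.reverse := by
    rw [dual, show (starRingEnd F : F →+* F) = RingHom.id F from RingHom.ext fun _ => rfl, Polynomial.map_id]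
  rw [e1, map_mul, aeval_C, ← Algebra.smul_def, LinearMap.ker_smul _ _ hc, ← T.finrank_ker_adj (T.adj_aeval _)]
  have h := aeval_reflect (F := F) T.Ui_mul_U P.natDegree P le_rfl
  rw [← h, Polynomial.reverse]
  have hu : IsUnit (T.U ^ P.natDegree) := (show IsUnit T.U from ⟨⟨T.U, T.Ui, T.U_mul_Ui, T.Ui_mul_U⟩, rfl⟩).pow _
  obtain ⟨uu, huu⟩ := hu
  rw [← huu]
  refine (LinearEquiv.finrank_eq ?_).symm
  refine ((LinearMap.GeneralLinearGroup.generalLinearEquiv F V uu).ofSubmodules _ _ ?_)
  rw [Module.End.mul_eq_comp, LinearMap.ker_comp]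
  exact Submodule.map_comap_eq_of_surjective (LinearMap.GeneralLinearGroup.generalLinearEquiv F V uu).surjective _

/-- the parameters -/
noncomputable def params (m : ℕ) : Fin (2 * m) → F[X] := (exists_decomp T.U).some.seq (2 * m)

theorem params_props (hN : IsUnit T.N) {m : ℕ} (_hm : Module.finrank F V = 2 * m) (k : Fin (2 * m)) :
    (T.params m k).Monic ∧ (T.params m k).coeff 0 ≠ 0 ∧ dual (T.params m k) = T.params m k ∧
      (T.params m k).eval 1 ≠ 0 := by
  classical
  set D := (exists_decomp T.U).some with hD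
  have hdet : LinearMap.det T.U ≠ 0 := fun h => by
    have := LinearMap.det_comp T.U T.Ui
    rw [← Module.End.mul_eq_comp, T.U_mul_Ui, map_one, h, zero_mul] at this
    exact one_ne_zero this
  have h0 : (T.params m k).coeff 0 ≠ 0 := D.seq_coeff_zero hdet k
  have h1 : ∀ P : F[X], Irreducible P → P.Monic → ∀ j,
      Module.finrank F (LinearMap.ker (aeval T.U (dualF P ^ j))) =
        Module.finrank F (LinearMap.ker (aeval T.U (P ^ j))) := by
    intro P hP hPm j
    by_cases hc : P.coeff 0 = 0
    · rw [show dualF P = P from if_neg fun h => h.2 hc]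
    · have e : ∀ j, dual (P ^ j) = dual P ^ j := fun j => by
        induction j with
        | zero => rw [pow_zero, pow_zero, dual_one]
        | succ j ih => rw [pow_succ, pow_succ, dual_mul, ih]
      rw [dualF_eq hPm hc, ← e]
      refine T.finrank_ker_dual' ?_
      rw [coeff_zero_eq_eval_zero, eval_pow]
      exact pow_ne_zero _ (by rwa [← coeff_zero_eq_eval_zero])
  have h2 := D.part_eq D dualF dualF_invol.injective (fun P hP hm => irreducible_dualF hP hm)
    (fun Q hQ hm => ⟨dualF Q, (irreducible_dualF hQ hm).1, (irreducible_dualF hQ hm).2.1, dualF_invol Q⟩) h1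
    (k.val + 1) (Nat.succ_ne_zero _)
  have h3 : ∀ P ∈ D.part (k.val + 1), P.Monic ∧ P.coeff 0 ≠ 0 ∧ P.eval 1 ≠ 0 := fun P hP => by
    obtain ⟨i, -, rfl⟩ := Multiset.mem_map.1 hP
    refine ⟨D.monic i, D.coeff_zero_ne hdet i, fun he => ?_⟩
    have hX : D.p i = X - C 1 := (eq_of_monic_of_associated (monic_X_sub_C 1) (D.monic i)
      ((irreducible_X_sub_C (1 : F)).associated_of_dvd (D.irred i) (dvd_iff_isRoot.2 he))).symm
    have hker := D.kerDim_eq (irreducible_X_sub_C (1 : F)) (monic_X_sub_C 1) 1
    have hz : LinearMap.ker (aeval T.U ((X - C (1 : F)) ^ 1)) = ⊥ := by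
      rw [pow_one, map_sub, aeval_X, aeval_C, map_one, show T.U - 1 = T.N by
        rw [N, sub_eq_add_neg]
        congr 1
        exact LinearMap.ext fun x => neg_eq' (F := F) x]
      exact (LinearMap.isUnit_iff_ker_eq_bot _).1 hN
    rw [hz, finrank_bot, natDegree_X_sub_C, one_mul, eq_comm, Finset.sum_eq_zero_iff] at hker
    have := hker i (Finset.mem_filter.2 ⟨Finset.mem_univ _, hX⟩)
    have := D.pos i
    omega
  refine ⟨D.seq_monic k, h0, ?_, ?_⟩
  · show dual (D.part (k.val + 1)).prod = (D.part (k.val + 1)).prod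
    conv_rhs => rw [h2]
    generalize D.part (k.val + 1) = s at h3 ⊢
    induction s using Multiset.induction with
    | empty => simp [dual_one]
    | cons P s ih =>
      obtain ⟨hm', h0', -⟩ := h3 P (Multiset.mem_cons_self _ _)
      rw [Multiset.prod_cons, dual_mul, Multiset.map_cons, Multiset.prod_cons, dualF_eq hm' h0',
        ih fun Q hQ => h3 Q (Multiset.mem_cons_of_mem hQ)]
  · show (D.part (k.val + 1)).prod.eval 1 ≠ 0
    rw [eval_multiset_prod]
    refine Multiset.prod_ne_zero fun h => ?_
    obtain ⟨P, hP, hP1⟩ := Multiset.mem_map.1 h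
    exact (h3 P hP).2.2 hP1

/-- the parameters as a sequence of weight `m` -/
noncomputable def half (m : ℕ) : Fin (2 * m) → F[X] := fun k => halfPoly (T.params m k)

theorem half_mem (hN : IsUnit T.N) {m : ℕ} (hm : Module.finrank F V = 2 * m) :
    (∀ k, (T.half m k).Monic ∧ (T.half m k).coeff 0 ≠ 0) ∧ wdeg F (T.half m) = m := by
  refine ⟨fun k => ?_, ?_⟩
  · obtain ⟨a, b, c, d⟩ := T.params_props hN hm k
    exact ⟨(halfPoly_spec _).1, halfPoly_coeff_zero a b c d⟩
  · have h : wdeg F (T.params m) = 2 * m := (exists_decomp T.U).some.wdeg_seq hm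
    have e : wdeg F (T.params m) = 2 * wdeg F (T.half m) := by
      rw [wdeg, wdeg, Finset.mul_sum]
      refine Finset.sum_congr rfl fun k _ => ?_
      obtain ⟨a, b, c, d⟩ := T.params_props hN hm k
      obtain ⟨e, he, -⟩ := middle a b c d
      rw [half, (halfPoly_spec _).2.1, he, Nat.mul_div_cancel_left e two_pos]
      ring
    omega

end Sys

/-- Equal parameters give an isometry. -/
theorem isometry_of_half {V : Type v} [AddCommGroup V] [Module F V] [FiniteDimensional F V] {V' : Type w}
    [AddCommGroup V'] [Module F V'] [FiniteDimensional F V'] {T : Sys F V} {T' : Sys F V'} (hN : IsUnit T.N)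
    (hN' : IsUnit T'.N) {m : ℕ} (hm : Module.finrank F V = 2 * m) (hm' : Module.finrank F V' = 2 * m)
    (h : T.half m = T'.half m) :
    ∃ φ : V ≃ₗ[F] V', (∀ x y, T'.B (φ x) (φ y) = T.B x y) ∧ ∀ x, φ (T.U x) = T'.U (φ x) := by
  have hp : T.params m = T'.params m := funext fun k => by
    obtain ⟨a, b, c, d⟩ := T.params_props hN hm k
    obtain ⟨a', b', c', d'⟩ := T'.params_props hN' hm' k
    exact halfPoly_injective a b c d a' b' c' d' (congrFun h k)
  let e : V ≃ₗ[F] V' := LinearEquiv.ofFinrankEq V V' (by rw [hm, hm'])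
  set D := (exists_decomp T.U).some with hD
  set D' := (exists_decomp T'.U).some with hD'
  let T2 : Module.End F V := e.symm.toLinearMap ∘ₗ T'.U ∘ₗ e.toLinearMap
  let D2 : Decomp T2 :=
    { κ := D'.κ, fin := D'.fin, p := D'.p, e := D'.e, irred := D'.irred, monic := D'.monic, pos := D'.pos
      Ψ := e.trans D'.Ψ
      comm := fun v i => by
        show D'.Ψ (e (e.symm (T'.U (e v)))) i = _
        rw [e.apply_symm_apply]
        exact D'.comm (e v) i }
  obtain ⟨c, hc⟩ := D.similar D2 (fun k => D.part_eq_of_seq_eq D2 hm hp k)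
  refine exists_isometry T T' hN (c.trans e) fun x => ?_
  show e (c (T.U x)) = T'.U (e (c x))
  rw [hc]
  exact e.apply_symm_apply _

end Cfsg.Agent.Small.SpEven
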