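import Mathlib
import Cfsg.Agent.Lib.Small.ClassNumber.Seq
import Cfsg.Agent.Lib.Small.ClassNumberSp2.Count
import Cfsg.Agent.Lib.Small.ClassNumberSp2.Params

/-!
The class number of the symplectic groups in characteristic two.
-/

set_option autoImplicit false
set_option linter.unusedSectionVars false
set_option linter.style.haveILetI false

namespace Cfsg.Agent.Small.SpEven

open Cfsg.Agent.Small.ClassNumber

universe u v w

variable {F : Type u} [Field F] [Fintype F] [CharP F 2]

namespace Sys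

variable {V : Type v} [AddCommGroup V] [Module F V] [FiniteDimensional F V] (T : Sys F V)

/-- the system on a non-degenerate invariant subspace -/
noncomputable def res (W : Submodule F V) (hW : T.ND W) (hi : T.Inv W) : Sys F W where
  B := T.B.compl₁₂ W.subtype W.subtype
  g := LinearEquiv.ofBijective (T.U.restrict (fun x hx => by
      have e : T.U x = T.N x + x := by
        rw [N, LinearMap.add_apply, Module.End.one_apply, add_assoc, add_self_eq (F := F), add_zero]
      rw [e]; exact W.add_mem (hi x hx) hx))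
    ⟨fun a b hab => Subtype.ext (T.g.injective (congrArg Subtype.val hab)), fun x =>
      ⟨⟨T.Ui x.1, hi.Ui_mem' x.2⟩, Subtype.ext (T.g.apply_symm_apply x.1)⟩⟩
  alt := fun x => T.alt x.1
  nondeg := fun x hx => Subtype.ext (hW x.1 x.2 fun y hy => hx ⟨y, hy⟩)
  inv := fun x y => T.inv x.1 y.1

theorem res_U (W : Submodule F V) (hW : T.ND W) (hi : T.Inv W) (x : W) :
    ((T.res W hW hi).U x : V) = T.U x.1 := rfl

theorem res_N (W : Submodule F V) (hW : T.ND W) (hi : T.Inv W) (x : W) :
    ((T.res W hW hi).N x : V) = T.N x.1 := rfl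

/-- the part on which the isometry is unipotent -/
noncomputable def uPart : Submodule F V := LinearMap.ker (T.N ^ Module.finrank F V)

/-- the complementary part -/
noncomputable def zPart : Submodule F V := LinearMap.range (T.N ^ Module.finrank F V)

theorem orth_parts : T.Orth T.uPart T.zPart := by
  intro x hx y hy
  obtain ⟨z, rfl⟩ := hy
  rw [T.B_symm]
  exact T.B_pow_right _ hx

theorem inv_uPart : T.Inv T.uPart := fun x hx => by
  show (T.N ^ Module.finrank F V) (T.N x) = 0
  rw [← Module.End.mul_apply, ← pow_succ, pow_succ', Module.End.mul_apply, show (T.N ^ Module.finrank F V) x = 0 from hx,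
    map_zero]

theorem inv_zPart : T.Inv T.zPart := fun x hx => by
  obtain ⟨z, rfl⟩ := hx
  exact ⟨T.N z, by rw [← Module.End.mul_apply, ← pow_succ, pow_succ', Module.End.mul_apply]⟩

theorem parts_inf : T.uPart ⊓ T.zPart = ⊥ := by
  refine (Submodule.eq_bot_iff _).2 fun x hx => ?_
  obtain ⟨hxu, y, rfl⟩ := hx
  have h : (T.N ^ (Module.finrank F V + Module.finrank F V)) y = 0 := by
    rw [← T.N_pow_apply]; exact hxu
  have h2 : y ∈ LinearMap.ker (T.N ^ Module.finrank F V) := by
    rw [← Module.End.ker_pow_eq_ker_pow_finrank_of_le (Nat.le_add_right _ (Module.finrank F V))]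
    exact h
  exact h2

theorem parts_sup : T.uPart ⊔ T.zPart = ⊤ := by
  refine Submodule.eq_top_of_finrank_eq ?_
  have h := Submodule.finrank_sup_add_finrank_inf_eq T.uPart T.zPart
  rw [T.parts_inf, finrank_bot, add_zero] at h
  rw [h, uPart, zPart, add_comm]
  exact LinearMap.finrank_range_add_finrank_ker _

theorem nd_parts : T.ND T.uPart ∧ T.ND T.zPart := by
  have key : ∀ (W W' : Submodule F V), T.Orth W W' → W ⊔ W' = ⊤ → T.ND W := by
    intro W W' ho hsup x hx hall
    refine T.nondeg x fun y => ?_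
    obtain ⟨a, ha, b, hb, rfl⟩ := Submodule.mem_sup.1 (show y ∈ W ⊔ W' by rw [hsup]; trivial)
    rw [map_add, hall a ha, ho x hx b hb, add_zero]
  exact ⟨key _ _ T.orth_parts T.parts_sup, key _ _ T.orth_parts.symm (by rw [sup_comm]; exact T.parts_sup)⟩

theorem isUnit_zPart : IsUnit (T.res T.zPart T.nd_parts.2 T.inv_zPart).N := by
  rw [LinearMap.isUnit_iff_ker_eq_bot, LinearMap.ker_eq_bot']
  intro x hx
  have h : T.N x.1 = 0 := (T.res_N _ T.nd_parts.2 T.inv_zPart x).symm.trans (congrArg Subtype.val hx)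
  refine Subtype.ext ((Submodule.mem_bot F).1 (T.parts_inf ▸ ⟨?_, x.2⟩))
  show (T.N ^ Module.finrank F V) x.1 = 0
  rcases Nat.eq_zero_or_pos (Module.finrank F V) with h0 | h0
  · haveI := Module.finrank_zero_iff.1 h0
    exact Subsingleton.elim _ _
  · obtain ⟨d, hd⟩ : ∃ d, Module.finrank F V = d + 1 := ⟨_, (Nat.succ_pred_eq_of_pos h0).symm⟩
    rw [hd, pow_succ, Module.End.mul_apply, h, map_zero]

/-- The data of an isometry: a normal form of the unipotent part and the parameters of the other. -/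
theorem exists_data {m : ℕ} (hV : Module.finrank F V = 2 * m) :
    ∃ L, T.Dec T.uPart L ∧ Nice L ∧ weight L ≤ m ∧ Module.finrank F T.zPart = 2 * (m - weight L) := by
  obtain ⟨L₀, hL₀⟩ := T.exists_dec T.uPart T.nd_parts.1 T.inv_uPart fun x hx => ⟨_, hx⟩
  obtain ⟨L, hL, hN⟩ := T.exists_nice hL₀
  have h := Submodule.finrank_sup_add_finrank_inf_eq T.uPart T.zPart
  rw [T.parts_inf, T.parts_sup, finrank_bot, finrank_top, hV, hL.finrank] at h
  exact ⟨L, hL, hN, by omega, by omega⟩

end Sys

section glue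

variable {V : Type v} [AddCommGroup V] [Module F V] [FiniteDimensional F V]
variable {V' : Type w} [AddCommGroup V'] [Module F V'] [FiniteDimensional F V']

theorem span_coe {U : Type v} [AddCommGroup U] [Module F U] (W : Submodule F U) {ι : Type} (c : ι → W)
    (hc : Submodule.span F (Set.range c) = ⊤) : Submodule.span F (Set.range fun i => (c i : U)) = W := by
  rw [show (fun i => (c i : U)) = W.subtype ∘ c from rfl, Set.range_comp, Submodule.span_image, hc,
    Submodule.map_subtype_top]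

theorem gramEq_zPart {T : Sys F V} {T' : Sys F V'} {d : ℕ} (hd : Module.finrank F T.zPart = 2 * d)
    (hd' : Module.finrank F T'.zPart = 2 * d)
    (h : (T.res T.zPart T.nd_parts.2 T.inv_zPart).half d = (T'.res T'.zPart T'.nd_parts.2 T'.inv_zPart).half d) :
    GramEq T T' T.zPart T'.zPart := by
  obtain ⟨φ, hφB, hφU⟩ := isometry_of_half T.isUnit_zPart T'.isUnit_zPart hd hd' h
  let b := Module.finBasis F T.zPart
  refine ⟨Fin (Module.finrank F T.zPart), fun i => (b i : V), fun i => (φ (b i) : V'), span_coe _ _ b.span_eq,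
    span_coe _ _ ?_, fun i j => (hφB (b i) (b j)).symm, fun i j => ?_⟩
  · rw [show (fun i => φ (b i)) = ⇑φ.toLinearMap ∘ ⇑b from rfl, Set.range_comp, Submodule.span_image, b.span_eq,
      Submodule.map_top, LinearEquiv.range]
  · have e : φ ((T.res T.zPart T.nd_parts.2 T.inv_zPart).N (b i)) =
        (T'.res T'.zPart T'.nd_parts.2 T'.inv_zPart).N (φ (b i)) := by
      simp only [Sys.N, LinearMap.add_apply, Module.End.one_apply, map_add, hφU]
    have h1 := hφB ((T.res T.zPart T.nd_parts.2 T.inv_zPart).N (b i)) (b j)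
    rw [e] at h1
    exact h1.symm

/-- Equal data give an isometry commuting with the given ones. -/
theorem equiv_of_data {T : Sys F V} {T' : Sys F V'} {L : Multiset Tag} {d : ℕ} (hL : T.Dec T.uPart L)
    (hL' : T'.Dec T'.uPart L) (hd : Module.finrank F T.zPart = 2 * d) (hd' : Module.finrank F T'.zPart = 2 * d)
    (h : (T.res T.zPart T.nd_parts.2 T.inv_zPart).half d = (T'.res T'.zPart T'.nd_parts.2 T'.inv_zPart).half d) :
    ∃ φ : V ≃ₗ[F] V', (∀ x y, T'.B (φ x) (φ y) = T.B x y) ∧ ∀ x, φ (T.g x) = T'.g (φ x) := by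
  have hg := (gramEq_of_dec hL hL').sup (gramEq_zPart hd hd' h) T.orth_parts T'.orth_parts T.inv_uPart
    T'.inv_uPart T.inv_zPart T'.inv_zPart
  rw [T.parts_sup, T'.parts_sup] at hg
  exact exists_equiv hg

end glue

section matrix

open Matrix

variable {n : ℕ}

theorem alt_J (x : Fin n ⊕ Fin n → F) : x ⬝ᵥ (Matrix.J (Fin n) F *ᵥ x) = 0 := by
  simp only [dotProduct, Matrix.mulVec, Matrix.J, Fintype.sum_sum_type, Matrix.fromBlocks_apply₁₁,
    Matrix.fromBlocks_apply₁₂, Matrix.fromBlocks_apply₂₁, Matrix.fromBlocks_apply₂₂, Matrix.zero_apply,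
    Matrix.neg_apply, Matrix.one_apply, zero_mul, Finset.sum_const_zero, zero_add, add_zero,
    ite_mul, one_mul, neg_mul, Finset.sum_neg_distrib, Finset.sum_ite_eq, Finset.mem_univ, if_true]
  rw [← Finset.sum_add_distrib]
  exact Finset.sum_eq_zero fun i _ => by ring

/-- a symplectic matrix as an isometry -/
noncomputable def sysOf (A : ↥(Matrix.symplecticGroup (Fin n) F)) : Sys F (Fin n ⊕ Fin n → F) where
  B := Matrix.toLinearMap₂' F (Matrix.J (Fin n) F)
  g :=
    { Matrix.toLin' A.1 with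
      invFun := fun x => (A⁻¹ : ↥(Matrix.symplecticGroup (Fin n) F)).1 *ᵥ x
      left_inv := fun x => by
        show (A⁻¹).1 *ᵥ (A.1 *ᵥ x) = x
        rw [Matrix.mulVec_mulVec, show (A⁻¹).1 * A.1 = 1 from congrArg Subtype.val (inv_mul_cancel A),
          Matrix.one_mulVec]
      right_inv := fun x => by
        show A.1 *ᵥ ((A⁻¹).1 *ᵥ x) = x
        rw [Matrix.mulVec_mulVec, show A.1 * (A⁻¹).1 = 1 from congrArg Subtype.val (mul_inv_cancel A),
          Matrix.one_mulVec] }
  alt := fun x => by rw [Matrix.toLinearMap₂'_apply']; exact alt_J x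
  nondeg := fun x hx => by
    have h : ∀ w, ((Matrix.J (Fin n) F)ᵀ *ᵥ x) ⬝ᵥ w = 0 := fun w => by
      rw [Matrix.mulVec_transpose, ← Matrix.dotProduct_mulVec, ← Matrix.toLinearMap₂'_apply']
      exact hx w
    have h' : (Matrix.J (Fin n) F)ᵀ *ᵥ x = 0 := funext fun i => by simpa using h (Pi.single i 1)
    by_contra hx0
    exact (Matrix.isUnit_det_J (Fin n) F).ne_zero
      (by rw [← Matrix.det_transpose]; exact Matrix.exists_mulVec_eq_zero_iff.1 ⟨x, hx0, h'⟩)
  inv := fun x y => by
    show Matrix.toLinearMap₂' F (Matrix.J (Fin n) F) (A.1 *ᵥ x) (A.1 *ᵥ y) =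
      Matrix.toLinearMap₂' F (Matrix.J (Fin n) F) x y
    rw [Matrix.toLinearMap₂'_apply', Matrix.toLinearMap₂'_apply', Matrix.mulVec_mulVec, ← Matrix.vecMul_transpose A.1 x,
      ← Matrix.dotProduct_mulVec, Matrix.mulVec_mulVec, ← mul_assoc, SymplecticGroup.mem_iff'.1 A.2]

theorem isConj_of_equiv (A A' : ↥(Matrix.symplecticGroup (Fin n) F)) (φ : (Fin n ⊕ Fin n → F) ≃ₗ[F] (Fin n ⊕ Fin n → F))
    (hB : ∀ x y, (sysOf A').B (φ x) (φ y) = (sysOf A).B x y)
    (hg : ∀ x, φ ((sysOf A).g x) = (sysOf A').g (φ x)) : IsConj A A' := by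
  set Q := LinearMap.toMatrix' φ.toLinearMap with hQ
  have hQv : ∀ x, Q *ᵥ x = φ x := fun x => LinearMap.toMatrix'_mulVec φ.toLinearMap x
  have hQm : Q ∈ Matrix.symplecticGroup (Fin n) F := by
    rw [SymplecticGroup.mem_iff']
    refine (Matrix.toLinearMap₂' F : Matrix (Fin n ⊕ Fin n) (Fin n ⊕ Fin n) F ≃ₗ[F]
      ((Fin n ⊕ Fin n → F) →ₗ[F] (Fin n ⊕ Fin n → F) →ₗ[F] F)).injective (LinearMap.ext₂ fun x y => ?_)
    rw [Matrix.toLinearMap₂'_apply', ← Matrix.mulVec_mulVec, ← Matrix.mulVec_mulVec, Matrix.dotProduct_mulVec,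
      Matrix.vecMul_transpose, hQv, hQv, ← Matrix.toLinearMap₂'_apply']
    exact hB x y
  refine isConj_iff.2 ⟨⟨Q, hQm⟩, mul_inv_eq_iff_eq_mul.2 (Subtype.ext (Matrix.ext_iff_mulVec.2 fun x => ?_))⟩
  show (Q * A.1) *ᵥ x = (A'.1 * Q) *ᵥ x
  rw [← Matrix.mulVec_mulVec, ← Matrix.mulVec_mulVec, hQv, hQv]
  exact hg x

theorem finrank_vec : Module.finrank F (Fin n ⊕ Fin n → F) = 2 * n := by
  rw [Module.finrank_fintype_fun_eq_card, Fintype.card_sum, Fintype.card_fin, two_mul]

/-- The class number is at most `15.2 q ^ n`. -/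
theorem card_classes_le :
    5 * Nat.card (ConjClasses ↥(Matrix.symplecticGroup (Fin n) F)) ≤ 76 * Fintype.card F ^ n := by
  classical
  obtain ⟨S, hS, hw⟩ := exists_forms n
  set S' := S.filter fun L => weight L ≤ n with hS'
  let rep : ConjClasses ↥(Matrix.symplecticGroup (Fin n) F) → ↥(Matrix.symplecticGroup (Fin n) F) :=
    fun C => (ConjClasses.exists_rep C).choose
  choose L hL hnice hwt hdim using fun C => (sysOf (rep C)).exists_data (finrank_vec (F := F) (n := n))
  let f : ConjClasses ↥(Matrix.symplecticGroup (Fin n) F) →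
      (Σ L : ↥S', SeqT F (2 * (n - weight L.1)) (n - weight L.1)) :=
    fun C => ⟨⟨L C, Finset.mem_filter.2 ⟨hS _ (hnice C) (hL C).wf (hwt C), hwt C⟩⟩,
      ⟨((sysOf (rep C)).res _ (sysOf (rep C)).nd_parts.2 (sysOf (rep C)).inv_zPart).half (n - weight (L C)),
        ((sysOf (rep C)).res _ (sysOf (rep C)).nd_parts.2 (sysOf (rep C)).inv_zPart).half_mem
          (sysOf (rep C)).isUnit_zPart (hdim C)⟩⟩
  have hinj : Function.Injective f := by
    intro C C' h
    have hLe : L C = L C' := congrArg (fun s => s.1.1) h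
    have key : ∀ (M M' : Multiset Tag) (hM : M ∈ S') (hM' : M' ∈ S') (x : SeqT F (2 * (n - weight M)) (n - weight M))
        (x' : SeqT F (2 * (n - weight M')) (n - weight M')) (e : M = M'),
        (⟨⟨M, hM⟩, x⟩ : Σ L : ↥S', SeqT F (2 * (n - weight L.1)) (n - weight L.1)) = ⟨⟨M', hM'⟩, x'⟩ →
          x.1 = e ▸ x'.1 := by
      rintro M _ hM hM' x x' rfl h
      exact congrArg Subtype.val (eq_of_heq (Sigma.mk.inj_iff.1 h).2)
    have hh := key _ _ _ _ _ _ hLe h
    dsimp only at hh
    have hh2 : ((sysOf (rep C)).res _ (sysOf (rep C)).nd_parts.2 (sysOf (rep C)).inv_zPart).half (n - weight (L C)) =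
        ((sysOf (rep C')).res _ (sysOf (rep C')).nd_parts.2 (sysOf (rep C')).inv_zPart).half (n - weight (L C)) := by
      rw [hh]
      clear hh key h
      generalize L C = M at hLe ⊢
      subst hLe
      rfl
    obtain ⟨φ, hB, hg⟩ := equiv_of_data (T := sysOf (rep C)) (T' := sysOf (rep C')) (hL C) (hLe ▸ hL C') (hdim C)
      (by rw [hLe]; exact hdim C') hh2
    have := ConjClasses.mk_eq_mk_iff_isConj.2 (isConj_of_equiv (rep C) (rep C') φ hB hg)
    rwa [show ConjClasses.mk (rep C) = C from (ConjClasses.exists_rep C).choose_spec,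
      show ConjClasses.mk (rep C') = C' from (ConjClasses.exists_rep C').choose_spec] at this
  have hcard : Nat.card (ConjClasses ↥(Matrix.symplecticGroup (Fin n) F)) ≤
      ∑ L ∈ S', Fintype.card F ^ (n - weight L) := by
    refine (Nat.card_le_card_of_injective f hinj).trans ?_
    rw [Nat.card_sigma, ← Finset.sum_coe_sort S' (fun L => Fintype.card F ^ (n - weight L))]
    exact Finset.sum_le_sum fun L _ => (numT_le (F := F) _ _).1
  have hq : (2 : ℚ) ≤ Fintype.card F := by exact_mod_cast Fintype.one_lt_card (α := F)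
  set q := Fintype.card F with hqdef
  have hsum : ((∑ L ∈ S', q ^ (n - weight L) : ℕ) : ℚ) ≤ (q : ℚ) ^ n * wsum S := by
    push_cast
    refine le_trans ?_ (mul_le_mul_of_nonneg_left (wsum_mono (Finset.filter_subset (fun L => weight L ≤ n) S))
      (by positivity))
    rw [← hS', wsum, Finset.mul_sum]
    refine Finset.sum_le_sum fun L hL => ?_
    obtain ⟨d, hd⟩ : ∃ d, n = d + weight L := ⟨n - weight L, by
      have : weight L ≤ n := (Finset.mem_filter.1 hL).2
      omega⟩
    rw [hd, Nat.add_sub_cancel, pow_add, mul_assoc, ← mul_pow]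
    exact le_mul_of_one_le_right (by positivity) (one_le_pow₀ (by linarith))
  have h5 : ((5 * Nat.card (ConjClasses ↥(Matrix.symplecticGroup (Fin n) F)) : ℕ) : ℚ) ≤
      ((76 * q ^ n : ℕ) : ℚ) := by
    have h1 : (Nat.card (ConjClasses ↥(Matrix.symplecticGroup (Fin n) F)) : ℚ) ≤
        ((∑ L ∈ S', q ^ (n - weight L) : ℕ) : ℚ) := by exact_mod_cast hcard
    have h2 : (q : ℚ) ^ n * wsum S ≤ (q : ℚ) ^ n * (76 / 5) := mul_le_mul_of_nonneg_left hw (by positivity)
    push_cast at *
    linarith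
  exact_mod_cast h5

end matrix

end Cfsg.Agent.Small.SpEven
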